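import Cfsg.Agent.S0949
import Cfsg.Agent.Lib.AbelianSylowTwo.RankTwo
import Cfsg.Agent.Lib.Goldschmidt.General.ElemSylow
import Cfsg.Agent.Lib.ClosedPair.Product

/-!
# Abelian Sylow subgroups with an invariant subgroup of index four (helper46, for S4594)

* `stronglyClosed_of_invariant` : Burnside
* `klein_of_invariant` : in a simple group such a Sylow subgroup is a four-group
-/

set_option autoImplicit false
set_option linter.style.haveILetI false

namespace Cfsg.Agent.CentIndexFour

open Subgroup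

variable {G : Type*} [Group G] [Finite G]

theorem stronglyClosed_of_invariant (S : Sylow 2 G) [IsMulCommutative (S : Subgroup G)] {Y : Subgroup G}
    (hY : Y ≤ (S : Subgroup G)) (hN : normalizer ((S : Subgroup G) : Set G) ≤ normalizer (Y : Set G)) :
    IsStronglyClosed Y (S : Subgroup G) := by
  haveI : Fact (Nat.Prime 2) := ⟨Nat.prime_two⟩
  refine ⟨hY, fun x hx g hg => ?_⟩
  obtain ⟨n, hn, he⟩ := S.conj_eq_normalizer_conj_of_mem x g⁻¹ (hY hx) (by rwa [inv_inv])
  rw [inv_inv] at he
  rw [he]
  have := (mem_normalizer_iff.1 (hN (inv_mem hn)) x).1 hx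
  rwa [inv_inv] at this

theorem klein_of_invariant [IsSimpleGroup G] (hna : ¬ IsMulCommutative G) (S : Sylow 2 G)
    [hSc : IsMulCommutative (S : Subgroup G)] {R : Subgroup G} (hR : R ≤ (S : Subgroup G))
    (hRi : R.relIndex (S : Subgroup G) = 4)
    (hRN : normalizer ((S : Subgroup G) : Set G) ≤ normalizer (R : Set G)) :
    IsKleinFour (S : Subgroup G) := by
  classical
  haveI : Fact (Nat.Prime 2) := ⟨Nat.prime_two⟩
  have hcomm : ∀ x ∈ (S : Subgroup G), ∀ y ∈ (S : Subgroup G), x * y = y * x := fun x hx y hy =>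
    congrArg Subtype.val (hSc.is_comm.comm ⟨x, hx⟩ ⟨y, hy⟩)
  have hSne : (S : Subgroup G) ≠ ⊥ := fun h => by
    rw [h, relIndex_bot_right] at hRi
    omega
  have hodd : ∀ N : Subgroup G, N.Normal → Odd (Nat.card N) → N = ⊥ := by
    intro N hN ho
    refine (IsSimpleGroup.eq_bot_or_eq_top_of_normal N hN).resolve_right fun h => ?_
    rw [h, Subgroup.card_top] at ho
    obtain ⟨k, hk⟩ := IsPGroup.iff_card.1 S.isPGroup'
    have hk0 : k ≠ 0 := fun h0 => hSne (Subgroup.eq_bot_of_card_eq _ (by rw [hk, h0, pow_zero]))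
    have h2 : 2 ∣ Nat.card G :=
      (dvd_pow_self 2 hk0).trans (hk ▸ (S : Subgroup G).card_subgroup_dvd_card)
    exact Nat.not_even_iff_odd.2 ho (even_iff_two_dvd.2 h2)
  have hO : Cfsg.pPrimeCore 2 G = ⊥ := hodd _ (Cores.pPrimeCore_normal 2 G)
    (Nat.coprime_two_left.1 (Nat.Coprime.symm (Cores.coprime_card_pPrimeCore (G := G) 2)))
  -- two invariant subgroups cannot be disjoint
  have hirr : ∀ Y Y' : Subgroup G, Y ≤ (S : Subgroup G) → Y' ≤ (S : Subgroup G) →
      normalizer ((S : Subgroup G) : Set G) ≤ normalizer (Y : Set G) →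
      normalizer ((S : Subgroup G) : Set G) ≤ normalizer (Y' : Set G) → Y ⊓ Y' = ⊥ → Y = ⊥ ∨ Y' = ⊥ := by
    intro Y Y' hY hY' hN hN' hd
    by_contra hcon
    push Not at hcon
    have h := ClosedPair.commute_normalClosure S (stronglyClosed_of_invariant S hY hN)
      (stronglyClosed_of_invariant S hY' hN') (fun x hx y hy => hcomm x (hY hx) y (hY' hy)) hd hO
    have t : ∀ {W : Subgroup G}, W ≠ ⊥ → normalClosure (W : Set G) = ⊤ := fun hW =>
      (IsSimpleGroup.eq_bot_or_eq_top_of_normal _ normalClosure_normal).resolve_left fun h =>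
        hW (le_bot_iff.1 (h ▸ subset_normalClosure))
    rw [t hcon.1, t hcon.2] at h
    exact hna ⟨⟨fun x y => (mem_centralizer_iff.1 (h (mem_top y)) x (mem_top x))⟩⟩
  let Ω : Subgroup G :=
    { carrier := {x | x ∈ (S : Subgroup G) ∧ x * x = 1}
      one_mem' := ⟨one_mem _, one_mul 1⟩
      mul_mem' := fun {x y} hx hy => ⟨mul_mem hx.1 hy.1, by
        rw [show x * y * (x * y) = x * (y * x) * y by group, ← hcomm x hx.1 y hy.1,
          show x * (x * y) * y = (x * x) * (y * y) by group, hx.2, hy.2, one_mul]⟩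
      inv_mem' := fun {x} hx => ⟨inv_mem hx.1, by rw [← mul_inv_rev, hx.2, inv_one]⟩ }
  have hΩS : Ω ≤ (S : Subgroup G) := fun x hx => hx.1
  have hΩel : Cfsg.IsElementaryAbelian 2 Ω :=
    ⟨⟨⟨fun x y => Subtype.ext (hcomm x (hΩS x.2) y (hΩS y.2))⟩⟩, fun x hx => by rw [pow_two]; exact hx.2⟩
  set N := normalizer ((S : Subgroup G) : Set G) with hNdef
  have hΩN : N ≤ normalizer (Ω : Set G) := by
    intro n hn
    refine mem_normalizer_iff.2 fun x => ?_
    show (x ∈ (S : Subgroup G) ∧ x * x = 1) ↔ n * x * n⁻¹ ∈ (S : Subgroup G) ∧ n * x * n⁻¹ * (n * x * n⁻¹) = 1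
    rw [show n * x * n⁻¹ * (n * x * n⁻¹) = n * (x * x) * n⁻¹ by group, conj_eq_one_iff]
    exact and_congr_left' (mem_normalizer_iff.1 hn x)
  -- `Ω` is irreducible
  have hmin : ∀ W : Subgroup G, W ≤ Ω → N ≤ normalizer (W : Set G) → W ≠ ⊥ → W = Ω := by
    intro W hW hWN hW0
    haveI : IsMulCommutative Ω := hΩel.1
    set T := (S : Subgroup G).subgroupOf N
    haveI : T.Normal := normal_in_normalizer
    have hcop : Nat.Coprime (Nat.card T) T.index := (S.subtype le_normalizer).card_coprime_index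
    obtain ⟨H, hH⟩ := exists_right_complement'_of_coprime hcop
    set H' := H.map N.subtype
    have hH'N : H' ≤ N := map_subtype_le H
    have hcard : Nat.card ↥H' = T.index := by
      rw [hH.symm.index_eq_card]
      exact (Nat.card_congr (H.equivMapOfInjective N.subtype N.subtype_injective).symm.toEquiv)
    have hcopΩ : (Nat.card ↥H').Coprime (Nat.card Ω) := by
      refine Nat.Coprime.coprime_dvd_right (Subgroup.card_dvd_of_le hΩS) ?_
      rw [hcard, ← Nat.card_congr (subgroupOfEquivOfLe (le_normalizer (H := (S : Subgroup G)))).toEquiv]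
      exact hcop.symm
    obtain ⟨W₀, hW₀, hd, hs⟩ := Goldschmidt.General.exists_complement_elem hΩel hW
    obtain ⟨B, hB, hH'B, hWB, hWB'⟩ := Coprime.exists_invariant_complement (A := H') (V := Ω)
      (hH'N.trans hΩN) hcopΩ hW (hH'N.trans hWN) hW₀ hd hs
    have hBN : N ≤ normalizer (B : Set G) := by
      intro n hn
      obtain ⟨t, ht, k, hk, e⟩ := mem_sup_of_normal_left.1 (hH.sup_eq_top.ge (mem_top (⟨n, hn⟩ : ↥N)))
      have e' : (t : G) * (k : G) = n := congrArg Subtype.val e
      rw [← e']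
      exact mul_mem (centralizer_le_normalizer _ fun b hb => hcomm b (hΩS (hB hb)) t ht) (hH'B ⟨k, hk, rfl⟩)
    rcases hirr W B (hW.trans hΩS) (hB.trans hΩS) hWN hBN hWB with h | h
    · exact absurd h hW0
    · rw [← hWB', h, sup_bot_eq]
  have hΩ4 : Nat.card Ω ≤ 4 := by
    have hcardS : Nat.card (S : Subgroup G) = 4 * Nat.card R := by
      have := card_mul_index (R.subgroupOf (S : Subgroup G))
      rw [← relIndex, hRi, Nat.card_congr (subgroupOfEquivOfLe hR).toEquiv] at this
      omega
    by_cases hRΩ : R ⊓ Ω = ⊥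
    · have hR1 : R = ⊥ := by
        rw [eq_bot_iff]
        intro x hx
        by_contra hx1
        obtain ⟨k, hk⟩ := S.isPGroup' ⟨x, hR hx⟩
        have hk' : x ^ 2 ^ k = 1 := congrArg Subtype.val hk
        have hex : ∃ j, x ^ 2 ^ j = 1 := ⟨k, hk'⟩
        obtain ⟨j, hj⟩ : ∃ j, Nat.find hex = j + 1 := by
          refine ⟨Nat.find hex - 1, ?_⟩
          have : Nat.find hex ≠ 0 := fun h => hx1 (by
            have := Nat.find_spec hex
            rw [h, pow_zero, pow_one] at this
            exact mem_bot.2 this)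
          omega
        have h1 : x ^ 2 ^ j ∈ R ⊓ Ω := by
          refine ⟨R.pow_mem hx _, (S : Subgroup G).pow_mem (hR hx) _, ?_⟩
          rw [← pow_add, ← two_mul, ← pow_succ', ← hj]
          exact Nat.find_spec hex
        rw [hRΩ, mem_bot] at h1
        exact Nat.find_min hex (show j < Nat.find hex by omega) h1
      calc Nat.card Ω ≤ Nat.card (S : Subgroup G) := Subgroup.card_le_of_le hΩS
        _ = 4 := by rw [hcardS, hR1, Subgroup.card_bot]
    · have hΩR : Ω ≤ R := by
        rw [← hmin (R ⊓ Ω) inf_le_right (fun n hn => ?_) hRΩ]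
        · exact inf_le_left
        · exact mem_normalizer_iff.2 fun x =>
            and_congr (mem_normalizer_iff.1 (hRN hn) x) (mem_normalizer_iff.1 (hΩN hn) x)
      -- the exponent of `S` and its top power map
      have hexp : ∃ e, ∀ x ∈ (S : Subgroup G), x ^ 2 ^ e = 1 := by
        obtain ⟨k, hk⟩ := IsPGroup.iff_card.1 S.isPGroup'
        exact ⟨k, fun x hx => congrArg Subtype.val (show (⟨x, hx⟩ : (S : Subgroup G)) ^ 2 ^ k = 1 by
          rw [← hk]; exact pow_card_eq_one')⟩
      set e := Nat.find hexp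
      have he : ∀ x ∈ (S : Subgroup G), x ^ 2 ^ e = 1 := Nat.find_spec hexp
      obtain ⟨f, hf⟩ : ∃ f, e = f + 1 := by
        refine ⟨e - 1, ?_⟩
        have : e ≠ 0 := fun h => hSne ((eq_bot_iff).2 fun x hx => by
          have := he x hx
          rw [h, pow_zero, pow_one] at this
          exact mem_bot.2 this)
        omega
      let φ : (S : Subgroup G) →* G :=
        { toFun := fun x => (x : G) ^ 2 ^ f
          map_one' := one_pow _
          map_mul' := fun x y => (show Commute (x : G) y from hcomm x x.2 y y.2).mul_pow _ }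
      have hφΩ : φ.range ≤ Ω := by
        rintro _ ⟨x, rfl⟩
        refine ⟨(S : Subgroup G).pow_mem x.2 _, ?_⟩
        show (x : G) ^ 2 ^ f * (x : G) ^ 2 ^ f = 1
        rw [← pow_add, ← two_mul, ← pow_succ', ← hf]
        exact he x x.2
      have hφN : ∀ (W : Subgroup G), W ≤ (S : Subgroup G) → N ≤ normalizer (W : Set G) →
          N ≤ normalizer (((W.subgroupOf (S : Subgroup G)).map φ : Subgroup G) : Set G) := by
        intro W hWS hWN n hn
        refine Coprime.mem_normalizer_of_forall fun y hy => ?_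
        obtain ⟨x, hx, rfl⟩ := hy
        refine ⟨⟨n * x * n⁻¹, (mem_normalizer_iff.1 hn _).1 x.2⟩, ?_, ?_⟩
        · exact (mem_normalizer_iff.1 (hWN hn) _).1 hx
        · show (n * (x : G) * n⁻¹) ^ 2 ^ f = n * (x : G) ^ 2 ^ f * n⁻¹
          exact conj_pow
      set I := (R.subgroupOf (S : Subgroup G)).map φ
      have hI : I ≤ Ω := (map_le_range _ _).trans hφΩ
      by_cases hI0 : I = ⊥
      · -- `R` lies in the kernel, so the image has order at most four
        have hφ0 : φ.range ≠ ⊥ := fun h => Nat.find_min hexp (show f < e by omega) fun x hx =>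
          mem_bot.1 (h ▸ ⟨⟨x, hx⟩, rfl⟩ : (x ^ 2 ^ f) ∈ (⊥ : Subgroup G))
        have hr : φ.range = Ω := hmin _ hφΩ (by
          have := hφN (S : Subgroup G) le_rfl (le_refl N)
          rwa [subgroupOf_self, ← MonoidHom.range_eq_map] at this) hφ0
        have hker : R.subgroupOf (S : Subgroup G) ≤ φ.ker := fun x hx =>
          mem_bot.1 (hI0 ▸ mem_map_of_mem φ hx)
        calc Nat.card Ω = φ.ker.index := by rw [index_ker, hr]
          _ ≤ (R.subgroupOf (S : Subgroup G)).index :=
            Nat.le_of_dvd (Nat.pos_of_ne_zero index_ne_zero_of_finite) (index_dvd_of_le hker)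
          _ = 4 := hRi
      · exfalso
        have hIΩ : I = Ω := hmin I hI (hφN R hR hRN) hI0
        have : ∀ j, ∀ x ∈ (S : Subgroup G), x ^ 2 ^ j = 1 → x ∈ R := by
          intro j
          induction j with
          | zero => intro x _ h; rw [pow_zero, pow_one] at h; rw [h]; exact one_mem _
          | succ j ih =>
            intro x hx h
            by_cases hje : j ≤ f
            · have h1 : x ^ 2 ^ j ∈ Ω := ⟨(S : Subgroup G).pow_mem hx _, by
                rw [← pow_add, ← two_mul, ← pow_succ']; exact h⟩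
              obtain ⟨r, hr, he'⟩ := hIΩ.ge h1
              have hrj : ((r : G) ^ 2 ^ (f - j)) ^ 2 ^ j = x ^ 2 ^ j := by
                rw [← pow_mul, ← pow_add, Nat.sub_add_cancel hje]
                exact he'
              have hrS := (S : Subgroup G).pow_mem r.2 (2 ^ (f - j))
              have h2 := ih (x * ((r : G) ^ 2 ^ (f - j))⁻¹) (mul_mem hx (inv_mem hrS)) (by
                rw [(show Commute x ((r : G) ^ 2 ^ (f - j))⁻¹ from hcomm x hx _ (inv_mem hrS)).mul_pow,
                  inv_pow, hrj, mul_inv_cancel])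
              have h3 : x * ((r : G) ^ 2 ^ (f - j))⁻¹ * (r : G) ^ 2 ^ (f - j) ∈ R := R.mul_mem h2 (R.pow_mem hr _)
              rwa [inv_mul_cancel_right] at h3
            · refine ih x hx ?_
              obtain ⟨d, hd⟩ : ∃ d, j = e + d := ⟨j - e, by omega⟩
              rw [hd, pow_add, pow_mul, he x hx, one_pow]
        have hSR : (S : Subgroup G) ≤ R := fun x hx => this e x hx (he x hx)
        rw [relIndex_eq_one.2 hSR] at hRi
        omega
  have hrank : Cfsg.PRankLE 2 2 (S : Subgroup G) := by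
    intro A _ hA2
    rw [← Nat.card_congr (A.equivMapOfInjective _ (S : Subgroup G).subtype_injective).symm.toEquiv]
    refine le_trans (Subgroup.card_le_of_le ?_) (hΩ4.trans (by norm_num))
    rintro _ ⟨x, hx, rfl⟩
    refine ⟨x.2, ?_⟩
    show (x : G) * (x : G) = 1
    rw [← pow_two]
    exact congrArg Subtype.val (hA2 x hx)
  rcases AbelianSylowTwo.rankLE_two_cases hO S hSc hrank with h | h | ⟨m, hm, ⟨e⟩⟩
  · exact absurd ⟨⟨fun x y => hcomm x (h.ge (mem_top x)) y (h.ge (mem_top y))⟩⟩ hna
  · exact h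
  · obtain ⟨hn, -, -⟩ := S0949.result S m hm e hodd
    rcases IsSimpleGroup.eq_bot_or_eq_top_of_normal _ hn with h | h
    · exact absurd h hSne
    · exact absurd ⟨⟨fun x y => hcomm x (h.ge (mem_top x)) y (h.ge (mem_top y))⟩⟩ hna

end Cfsg.Agent.CentIndexFour
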