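import Cfsg.Agent.Lib.CentIndexFour.Refl

/-!
# Active maximal abelian subgroups (helper46, for S4594)

* `Active A z` : the normaliser of `A` moves `z`
* `wGen A z` : generated by the conjugates of `z` under that normaliser
* `core A Z` : the elements of `Z` staying in `Z` under the normaliser
* `decomp` : the automiser of `A` modulo `wGen`
* `active_data` : the facts used on an active subgroup
-/

set_option autoImplicit false

namespace Cfsg.Agent.CentIndexFour

open Subgroup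
open scoped Pointwise

variable {G : Type*} [Group G]

/-- The normaliser of `A` moves `z`. -/
def Active (A : Subgroup G) (z : G) : Prop := ∃ h ∈ normalizer (A : Set G), h * z * h⁻¹ ≠ z

/-- The subgroup generated by the conjugates of `z` under `N(A)`. -/
def wGen (A : Subgroup G) (z : G) : Subgroup G :=
  closure {w | ∃ h ∈ normalizer (A : Set G), h * z * h⁻¹ = w}

/-- The elements of `Z` staying in `Z` under `N(A)`. -/
def core (A Z : Subgroup G) : Set G := {x | x ∈ Z ∧ ∀ h ∈ normalizer (A : Set G), h * x * h⁻¹ ∈ Z}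

variable [Finite G] {S : Sylow 2 G} {z : G} (D : Data (S : Subgroup G) z) {a : G}
  (ha : a ∈ (S : Subgroup G)) (hac : a ∉ cen (S : Subgroup G))
include D ha hac

theorem maxAb : MaxAb S (ax (S : Subgroup G) a) where
  le := inf_le_left
  comm _ hx _ hy := D.ax_comm ha hac hx hy
  relIndex := D.card_ax ha hac
  norm := D.le_normalizer_of_z_mem inf_le_left (D.z_mem_ax ha)

theorem refl_of_not_mem {s : G} (hs : s ∈ (S : Subgroup G)) (hsA : s ∉ ax (S : Subgroup G) a) :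
    Refl (ax (S : Subgroup G) a) s z where
  norm := (maxAb D ha hac).norm hs
  v_mem := D.z_mem_ax ha
  v_ne := D.z_ne
  v_sq := D.z_sq
  act x hx := D.conj_or hs hx.1
  wit := ⟨a, mem_ax.2 ⟨ha, rfl⟩, D.conj_eq_of_not_comm hs ha fun e => hsA (mem_ax.2 ⟨hs, e⟩)⟩
  fix := by rw [D.z_comm hs, mul_inv_cancel_right]

theorem exists_not_mem : ∃ s ∈ (S : Subgroup G), s ∉ ax (S : Subgroup G) a := by
  obtain ⟨b, hb, hab⟩ := D.ax_ne_top ha hac
  exact ⟨b, hb, fun h => hab (mem_ax.1 h).2.symm⟩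

/-- In `A`, an element centralised by an element outside is central in `S`. -/
theorem mem_cen_of_fix {s x : G} (hs : s ∈ (S : Subgroup G)) (hsA : s ∉ ax (S : Subgroup G) a)
    (hx : x ∈ ax (S : Subgroup G) a) (hfix : s * x * s⁻¹ = x) : x ∈ cen (S : Subgroup G) := by
  by_contra hxc
  apply hsA
  rw [← D.ax_eq ha hac hx hxc]
  exact mem_ax.2 ⟨hs, mul_inv_eq_iff_eq_mul.1 hfix⟩

theorem wGen_le : wGen (ax (S : Subgroup G) a) z ≤ ax (S : Subgroup G) a := by
  rw [wGen, closure_le]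
  rintro _ ⟨h, hh, rfl⟩
  exact norm_mem hh (D.z_mem_ax ha)

omit D ha hac [Finite G] in
theorem conj_mem_wGen {A : Subgroup G} {h w : G} (hh : h ∈ normalizer (A : Set G)) (hw : w ∈ wGen A z) :
    h * w * h⁻¹ ∈ wGen A z := by
  have : (wGen A z).map (MulAut.conj h).toMonoidHom ≤ wGen A z := by
    rw [wGen, MonoidHom.map_closure, closure_le]
    rintro _ ⟨_, ⟨k, hk, rfl⟩, rfl⟩
    exact subset_closure ⟨h * k, mul_mem hh hk, by simp [mul_assoc]⟩
  exact this ⟨w, hw, rfl⟩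

omit D ha hac [Finite G] in
theorem z_mem_wGen {A : Subgroup G} : z ∈ wGen A z := subset_closure ⟨1, one_mem _, by group⟩

/-- An element of `N(A)` fixing `z` acts on `A` like an element of `N(S)`. -/
theorem act_of_fix {m : G} (hm : m ∈ normalizer (ax (S : Subgroup G) a : Set G)) (hmz : m * z * m⁻¹ = z) :
    ∃ n ∈ normalizer ((S : Subgroup G) : Set G), n ∈ normalizer (ax (S : Subgroup G) a : Set G) ∧
      ∀ x ∈ ax (S : Subgroup G) a, m * x * m⁻¹ = n * x * n⁻¹ := by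
  classical
  haveI : Fact (Nat.Prime 2) := ⟨Nat.prime_two⟩
  set A := ax (S : Subgroup G) a
  have M := maxAb D ha hac
  set C := centralizer (A : Set G)
  have hSC : (S : Subgroup G) ≤ normalizer (C : Set G) :=
    fun y hy => by
      have key : ∀ y ∈ normalizer (A : Set G), ∀ c ∈ C, y * c * y⁻¹ ∈ C := fun y hy c hc =>
        mem_centralizer_iff.2 fun w hw => by
          have hw' : y⁻¹ * w * y ∈ A := by simpa using norm_mem (inv_mem hy) hw
          calc w * (y * c * y⁻¹) = y * ((y⁻¹ * w * y) * c) * y⁻¹ := by group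
            _ = y * (c * (y⁻¹ * w * y)) * y⁻¹ := by rw [mem_centralizer_iff.1 hc _ hw']
            _ = y * c * y⁻¹ * w := by group
      refine mem_normalizer_iff.2 fun c => ⟨key y (M.norm hy) c, fun hc => ?_⟩
      have := key y⁻¹ (inv_mem (M.norm hy)) _ hc
      rwa [show y⁻¹ * (y * c * y⁻¹) * y⁻¹⁻¹ = c by group] at this
  set K := C ⊔ (S : Subgroup G)
  have hK : ∀ k ∈ K, ∃ σ ∈ (S : Subgroup G), ∀ x ∈ A, k * x * k⁻¹ = σ * x * σ⁻¹ := by
    intro k hk
    have hk' : k ∈ ((C ⊔ (S : Subgroup G) : Subgroup G) : Set G) := hk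
    rw [coe_mul_of_right_le_normalizer_left C (S : Subgroup G) hSC] at hk'
    obtain ⟨c, hc, σ, hσ, rfl⟩ := hk'
    refine ⟨σ, hσ, fun x hx => ?_⟩
    have h1 : σ * x * σ⁻¹ ∈ A := norm_mem (M.norm hσ) hx
    calc c * σ * x * (c * σ)⁻¹ = c * (σ * x * σ⁻¹) * c⁻¹ := by group
      _ = σ * x * σ⁻¹ := by rw [← mem_centralizer_iff.1 hc _ h1, mul_inv_cancel_right]
  obtain ⟨s, hs, hsA⟩ := exists_not_mem D ha hac
  have hle : ((m • S : Sylow 2 G) : Subgroup G) ≤ K := by
    rw [Sylow.coe_subgroup_smul]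
    rintro _ ⟨y, hy, rfl⟩
    simp only [MulDistribMulAction.toMonoidEnd_apply, MulDistribMulAction.toMonoidHom_apply,
      MulAut.smul_def, MulAut.conj_apply]
    by_cases hyA : y ∈ A
    · exact mem_sup_right (M.le (norm_mem hm hyA))
    · have R1 := (refl_of_not_mem D ha hac hy hyA).conj hm
      rw [hmz] at R1
      have hact := R1.act_eq_of_centre M (refl_of_not_mem D ha hac hs hsA)
      have hc : m * y * m⁻¹ * s⁻¹ ∈ C := mem_centralizer_iff.2 fun x hx => by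
        have h1 := hact (s⁻¹ * x * s) (by simpa using norm_mem (inv_mem (M.norm hs)) hx)
        calc x * (m * y * m⁻¹ * s⁻¹) = s * (s⁻¹ * x * s) * s⁻¹ * (m * y * m⁻¹ * s⁻¹) := by group
          _ = m * y * m⁻¹ * (s⁻¹ * x * s) * (m * y * m⁻¹)⁻¹ * (m * y * m⁻¹ * s⁻¹) := by rw [h1]
          _ = m * y * m⁻¹ * s⁻¹ * x := by group
      rw [← inv_mul_cancel_right (m * y * m⁻¹) s]
      exact K.mul_mem (mem_sup_left hc) (mem_sup_right hs)
  have hSK : (S : Subgroup G) ≤ K := le_sup_right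
  obtain ⟨k, hk⟩ := MulAction.exists_smul_eq K ((m • S).subtype hle) (S.subtype hSK)
  rw [Sylow.smul_subtype] at hk
  have hkm : (k : G) • m • S = S := Sylow.subtype_injective hk
  rw [smul_smul, Sylow.smul_eq_iff_mem_normalizer] at hkm
  obtain ⟨σ, hσ, hact⟩ := hK k k.2
  refine ⟨σ⁻¹ * (k * m), mul_mem (inv_mem (le_normalizer hσ)) hkm, ?_, ?_⟩
  · refine mul_mem (inv_mem (M.norm hσ)) (mul_mem ?_ hm)
    obtain h : K ≤ normalizer (A : Set G) :=
      sup_le (centralizer_le_normalizer _) M.norm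
    exact h k.2
  · intro x hx
    have h1 := hact _ (norm_mem hm hx)
    calc m * x * m⁻¹ = σ⁻¹ * (σ * (m * x * m⁻¹) * σ⁻¹) * σ := by group
      _ = σ⁻¹ * (k * (m * x * m⁻¹) * (k : G)⁻¹) * σ := by rw [h1]
      _ = _ := by group

theorem three_centres (hv : Active (ax (S : Subgroup G) a) z) :
    ∃ t v : G, Refl (ax (S : Subgroup G) a) t v ∧ v ≠ z ∧ v ∉ cen (S : Subgroup G) ∧
      v ∈ wGen (ax (S : Subgroup G) a) z ∧ t * z * t⁻¹ = z * v ∧
      ∀ h ∈ normalizer (ax (S : Subgroup G) a : Set G),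
        h * z * h⁻¹ = z ∨ h * z * h⁻¹ = v ∨ h * z * h⁻¹ = v * z := by
  set A := ax (S : Subgroup G) a
  have M := maxAb D ha hac
  obtain ⟨s, hs, hsA⟩ := exists_not_mem D ha hac
  have Rs := refl_of_not_mem D ha hac hs hsA
  obtain ⟨h₀, hh₀, hne⟩ := hv
  have Rt := Rs.conj hh₀
  set t := h₀ * s * h₀⁻¹
  set v := h₀ * z * h₀⁻¹
  have hsv : s * v * s⁻¹ = v * z := Rs.move M Rt (Ne.symm hne)
  have htz : t * z * t⁻¹ = z * v := Rt.move M Rs hne
  refine ⟨t, v, Rt, hne, fun hc => ?_, subset_closure ⟨h₀, hh₀, rfl⟩, htz, fun h hh => ?_⟩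
  · have h1 : s * v * s⁻¹ = v := by rw [(mem_cen.1 hc).2 s hs, mul_inv_cancel_right]
    exact D.z_ne (mul_eq_left.1 (hsv.symm.trans h1))
  by_contra hcon
  push Not at hcon
  obtain ⟨n1, n2, n3⟩ := hcon
  have Rh := Rs.conj hh
  set r := h * s * h⁻¹
  set u := h * z * h⁻¹
  have e1 : r * z * r⁻¹ = z * u := Rh.move M Rs n1
  have e2 : r * v * r⁻¹ = v * u := Rh.move M Rt n2
  have Rst : Refl A (s * t * s⁻¹) (v * z) := hsv ▸ Rt.conj Rs.norm
  have e3 : r * (v * z) * r⁻¹ = v * z * u := Rh.move M Rst n3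
  have e4 : r * (v * z) * r⁻¹ = v * z := by
    rw [show r * (v * z) * r⁻¹ = (r * v * r⁻¹) * (r * z * r⁻¹) by group, e2, e1,
      show v * u * (z * u) = v * (u * z) * u by group, M.comm u Rh.v_mem z Rs.v_mem,
      show v * (z * u) * u = v * z * (u * u) by group, Rh.v_sq, mul_one]
  exact Rh.v_ne (mul_eq_left.1 (e3.symm.trans e4))

/-- The automiser of `A` modulo `wGen`. -/
theorem decomp {m : G} (hm : m ∈ normalizer (ax (S : Subgroup G) a : Set G)) :
    ∃ n ∈ normalizer ((S : Subgroup G) : Set G), n ∈ normalizer (ax (S : Subgroup G) a : Set G) ∧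
      ∀ x ∈ ax (S : Subgroup G) a, (n * x * n⁻¹)⁻¹ * (m * x * m⁻¹) ∈ wGen (ax (S : Subgroup G) a) z ∧
        (x ∈ core (ax (S : Subgroup G) a) (cen (S : Subgroup G)) → m * x * m⁻¹ = n * x * n⁻¹) := by
  set A := ax (S : Subgroup G) a
  have M := maxAb D ha hac
  by_cases hmz : m * z * m⁻¹ = z
  · obtain ⟨n, hn, hnA, he⟩ := act_of_fix D ha hac hm hmz
    exact ⟨n, hn, hnA, fun x hx => ⟨by rw [he x hx, inv_mul_cancel]; exact one_mem _, fun _ => he x hx⟩⟩
  obtain ⟨t, v, Rt, hne, hvc, hvW, htz, h3⟩ := three_centres D ha hac ⟨m, hm, hmz⟩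
  obtain ⟨s, hs, hsA⟩ := exists_not_mem D ha hac
  have Rs := refl_of_not_mem D ha hac hs hsA
  have hsv : s * v * s⁻¹ = v * z := Rs.move M Rt (Ne.symm hne)
  -- `r` moves `m z m⁻¹` back to `z` and moves elements of `A` only inside `wGen`
  have htvz : t * (v * z) * t⁻¹ = z := by
    rw [show t * (v * z) * t⁻¹ = (t * v * t⁻¹) * (t * z * t⁻¹) by group, Rt.fix, htz,
      M.comm z Rs.v_mem v Rt.v_mem, ← mul_assoc, Rt.v_sq, one_mul]
  have hW : z ∈ wGen A z := z_mem_wGen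
  have ht : ∀ x ∈ A, x⁻¹ * (t * x * t⁻¹) ∈ wGen A z := fun x hx => by
    rcases Rt.act x hx with e | e <;> rw [e]
    · rw [inv_mul_cancel]; exact one_mem _
    · rw [inv_mul_cancel_left]; exact hvW
  have hs' : ∀ x ∈ A, x⁻¹ * (s * x * s⁻¹) ∈ wGen A z := fun x hx => by
    rcases Rs.act x hx with e | e <;> rw [e]
    · rw [inv_mul_cancel]; exact one_mem _
    · rw [inv_mul_cancel_left]; exact hW
  have hcs : ∀ x ∈ cen (S : Subgroup G), s * x * s⁻¹ = x := fun x hx => by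
    rw [(mem_cen.1 hx).2 s hs, mul_inv_cancel_right]
  have hct : ∀ x ∈ core A (cen (S : Subgroup G)), x ∈ A → t * x * t⁻¹ = x := by
    intro x hx hxA
    rcases Rt.act x hxA with e | e
    · exact e
    · exfalso
      apply hvc
      have h1 := hx.2 t Rt.norm
      rw [e] at h1
      have := (cen (S : Subgroup G)).mul_mem ((cen (S : Subgroup G)).inv_mem hx.1) h1
      rwa [inv_mul_cancel_left] at this
  obtain ⟨r, hr, hru, hrW, hrC⟩ : ∃ r, r ∈ normalizer (A : Set G) ∧ r * (m * z * m⁻¹) * r⁻¹ = z ∧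
      (∀ x ∈ A, x⁻¹ * (r * x * r⁻¹) ∈ wGen A z) ∧
      ∀ x ∈ A, x ∈ core A (cen (S : Subgroup G)) → r * x * r⁻¹ = x := by
    rcases (h3 m hm).resolve_left hmz with e | e
    · refine ⟨t * s, mul_mem Rt.norm Rs.norm, ?_, fun x hx => ?_, fun x hxA hx => ?_⟩
      · rw [e, show t * s * v * (t * s)⁻¹ = t * (s * v * s⁻¹) * t⁻¹ by group, hsv, htvz]
      · have h1 := ht _ (norm_mem Rs.norm hx)
        have := (wGen A z).mul_mem (hs' x hx) h1
        rwa [show x⁻¹ * (s * x * s⁻¹) * ((s * x * s⁻¹)⁻¹ * (t * (s * x * s⁻¹) * t⁻¹)) =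
          x⁻¹ * (t * s * x * (t * s)⁻¹) by group] at this
      · rw [show t * s * x * (t * s)⁻¹ = t * (s * x * s⁻¹) * t⁻¹ by group, hcs x hx.1, hct x hx hxA]
    · exact ⟨t, Rt.norm, by rw [e, htvz], ht, fun x hxA hx => hct x hx hxA⟩
  obtain ⟨n, hn, hnA, he⟩ := act_of_fix D ha hac (mul_mem hr hm) (by
    rw [show r * m * z * (r * m)⁻¹ = r * (m * z * m⁻¹) * r⁻¹ by group, hru])
  refine ⟨n, hn, hnA, fun x hx => ⟨?_, fun hxc => ?_⟩⟩
  · have h1 := hrW _ (norm_mem hm hx)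
    rw [← he x hx, show (r * m * x * (r * m)⁻¹)⁻¹ * (m * x * m⁻¹) =
      ((m * x * m⁻¹)⁻¹ * (r * (m * x * m⁻¹) * r⁻¹))⁻¹ by group]
    exact (wGen A z).inv_mem h1
  · rw [← he x hx, show r * m * x * (r * m)⁻¹ = r * (m * x * m⁻¹) * r⁻¹ by group,
      hrC _ (norm_mem hm hx) ⟨hxc.2 m hm, fun h hh => by
        have := hxc.2 (h * m) (mul_mem hh hm)
        rwa [show h * m * x * (h * m)⁻¹ = h * (m * x * m⁻¹) * h⁻¹ by group] at this⟩]

omit ha hac [Finite G] in
theorem wGen_inactive (hv : ¬ Active (ax (S : Subgroup G) a) z) :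
    ∀ w ∈ wGen (ax (S : Subgroup G) a) z, w = 1 ∨ w = z := by
  intro w hw
  rw [Active] at hv
  push Not at hv
  have hle : wGen (ax (S : Subgroup G) a) z ≤ zpowers z := by
    rw [wGen, closure_le]
    rintro _ ⟨h, hh, rfl⟩
    rw [hv h hh]
    exact mem_zpowers z
  obtain ⟨i, rfl⟩ := mem_zpowers_iff.1 (hle hw)
  rcases Int.even_or_odd i with ⟨j, rfl⟩ | ⟨j, rfl⟩
  · left; rw [← two_mul, zpow_mul, zpow_two, D.z_sq, one_zpow]
  · right; rw [zpow_add, zpow_mul, zpow_two, D.z_sq, one_zpow, one_mul, zpow_one]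

/-- The facts used on an active subgroup. -/
theorem active_data (hv : Active (ax (S : Subgroup G) a) z) :
    ∃ v, v ∈ ax (S : Subgroup G) a ∧ v ∉ cen (S : Subgroup G) ∧ v * v = 1 ∧
      v ∈ wGen (ax (S : Subgroup G) a) z ∧
      (∀ w ∈ wGen (ax (S : Subgroup G) a) z, w = 1 ∨ w = z ∨ w = v ∨ w = v * z) ∧
      (∀ e ∈ cen (S : Subgroup G), e * e ≠ z) ∧
      z ∉ core (ax (S : Subgroup G) a) (cen (S : Subgroup G)) ∧
      ∀ x ∈ cen (S : Subgroup G), ∀ y ∈ cen (S : Subgroup G),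
        x ∉ core (ax (S : Subgroup G) a) (cen (S : Subgroup G)) →
        y ∉ core (ax (S : Subgroup G) a) (cen (S : Subgroup G)) →
        x * y ∈ core (ax (S : Subgroup G) a) (cen (S : Subgroup G)) := by
  set A := ax (S : Subgroup G) a
  set Z := cen (S : Subgroup G)
  have M := maxAb D ha hac
  obtain ⟨t, v, Rt, hne, hvc, hvW, htz, h3⟩ := three_centres D ha hac hv
  obtain ⟨s, hs, hsA⟩ := exists_not_mem D ha hac
  have Rs := refl_of_not_mem D ha hac hs hsA
  have hvz : v * z = z * v := M.comm v Rt.v_mem z Rs.v_mem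
  have hW : ∀ w ∈ wGen A z, w = 1 ∨ w = z ∨ w = v ∨ w = v * z := by
    intro w hw
    rw [wGen] at hw
    induction hw using closure_induction with
    | mem w hw =>
      obtain ⟨h, hh, rfl⟩ := hw
      rcases h3 h hh with e | e | e <;> simp [e]
    | one => simp
    | mul x y _ _ hx hy =>
      have h1 : z * (v * z) = v := by rw [hvz, ← mul_assoc, D.z_sq, one_mul]
      have h2 : v * (v * z) = z := by rw [← mul_assoc, Rt.v_sq, one_mul]
      have h3 : v * z * z = v := by rw [mul_assoc, D.z_sq, mul_one]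
      have h4 : v * z * v = z := by rw [hvz, mul_assoc, Rt.v_sq, mul_one]
      have h5 : v * z * (v * z) = 1 := by rw [← mul_assoc, h4, D.z_sq]
      rcases hx with rfl | rfl | rfl | rfl <;> rcases hy with rfl | rfl | rfl | rfl <;>
        simp only [one_mul, mul_one, D.z_sq, Rt.v_sq, h1, h2, h3, h4, h5, ← hvz, true_or, or_true]
    | inv x _ hx =>
      rcases hx with rfl | rfl | rfl | rfl
      · simp
      · exact Or.inr (Or.inl D.z_inv)
      · exact Or.inr (Or.inr (Or.inl (inv_eq_of_mul_eq_one_left Rt.v_sq)))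
      · refine Or.inr (Or.inr (Or.inr ?_))
        rw [mul_inv_rev, D.z_inv, inv_eq_of_mul_eq_one_left Rt.v_sq, hvz]
  have hfix : ∀ x ∈ Z, t * x * t⁻¹ = x → x ∈ core A Z := by
    intro x hx htx
    refine ⟨hx, fun h hh => mem_cen_of_fix D ha hac hs hsA (norm_mem hh (D.cen_le_ax ha hx)) ?_⟩
    have hu := inv_mem hh
    have R := Rs.conj hu
    have hxA : x ∈ A := D.cen_le_ax ha hx
    have hsx : s * x * s⁻¹ = x := by rw [(mem_cen.1 hx).2 s hs, mul_inv_cancel_right]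
    have key : h⁻¹ * s * h⁻¹⁻¹ * x * (h⁻¹ * s * h⁻¹⁻¹)⁻¹ = x := by
      rcases h3 _ hu with e | e | e <;> rw [e] at R
      · rw [R.act_eq_of_centre M Rs x hxA, hsx]
      · rw [R.act_eq_of_centre M Rt x hxA, htx]
      · have Rst : Refl A (s * t * s⁻¹) (v * z) := (Rs.move M Rt (Ne.symm hne)) ▸ Rt.conj Rs.norm
        rw [R.act_eq_of_centre M Rst x hxA]
        have hsx' : s⁻¹ * x * s = x := by
          calc s⁻¹ * x * s = s⁻¹ * (s * x * s⁻¹) * s := by rw [hsx]
            _ = x := by group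
        rw [show s * t * s⁻¹ * x * (s * t * s⁻¹)⁻¹ = s * (t * (s⁻¹ * x * s) * t⁻¹) * s⁻¹ by group,
          hsx', htx, hsx]
    calc s * (h * x * h⁻¹) * s⁻¹ = h * (h⁻¹ * s * h⁻¹⁻¹ * x * (h⁻¹ * s * h⁻¹⁻¹)⁻¹) * h⁻¹ := by group
      _ = h * x * h⁻¹ := by rw [key]
  refine ⟨v, Rt.v_mem, hvc, Rt.v_sq, hvW, hW, fun e he h2 => ?_, fun h => ?_, fun x hx y hy hxn hyn => ?_⟩
  · have h1 : t * z * t⁻¹ = z := by
      rw [← h2, show t * (e * e) * t⁻¹ = (t * e * t⁻¹) * (t * e * t⁻¹) by group]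
      rcases Rt.act e (D.cen_le_ax ha he) with h | h <;> rw [h]
      rw [mul_assoc, ← mul_assoc v e v, M.comm v Rt.v_mem e (D.cen_le_ax ha he), mul_assoc e v v,
        Rt.v_sq, mul_one]
    exact Rt.v_ne (mul_eq_left.1 (htz.symm.trans h1))
  · have := h.2 t Rt.norm
    rw [htz] at this
    have h2 := Z.mul_mem (Z.inv_mem D.z_mem) this
    rw [inv_mul_cancel_left] at h2
    exact hvc h2
  · have h1 := (Rt.act x (D.cen_le_ax ha hx)).resolve_left fun e => hxn (hfix x hx e)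
    have h2 := (Rt.act y (D.cen_le_ax ha hy)).resolve_left fun e => hyn (hfix y hy e)
    refine hfix _ (Z.mul_mem hx hy) ?_
    rw [show t * (x * y) * t⁻¹ = (t * x * t⁻¹) * (t * y * t⁻¹) by group, h1, h2, mul_assoc,
      ← mul_assoc v y v, M.comm v Rt.v_mem y (D.cen_le_ax ha hy), mul_assoc y v v, Rt.v_sq, mul_one]

end Cfsg.Agent.CentIndexFour
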