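import Mathlib.GroupTheory.Sylow
import Mathlib.GroupTheory.Index

/-!
# Sylow 2-subgroups with a centre of index four (helper46, for S4594)

* `cen S` : the centre of `S`, as a subgroup of `G`
* `Data S z` : the consequences of `|S : Z(S)| = 4`, `z` the commutator
* `data_of_index` : from the index
* `ax S a` : the maximal abelian subgroup `C_S(a)`
-/

set_option autoImplicit false

namespace Cfsg.Agent.CentIndexFour

open Subgroup

variable {G : Type*} [Group G]

/-- `Z(S)` inside `G`. -/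
abbrev cen (S : Subgroup G) : Subgroup G := S ⊓ centralizer (S : Set G)

/-- `C_S(a)`. -/
abbrev ax (S : Subgroup G) (a : G) : Subgroup G := S ⊓ centralizer ({a} : Set G)

theorem mem_cen {S : Subgroup G} {x : G} : x ∈ cen S ↔ x ∈ S ∧ ∀ y ∈ S, y * x = x * y := by
  rw [cen, mem_inf, mem_centralizer_iff]
  rfl

theorem mem_ax {S : Subgroup G} {a x : G} : x ∈ ax S a ↔ x ∈ S ∧ x * a = a * x := by
  rw [ax, mem_inf, mem_centralizer_singleton_iff]

/-- The consequences of `|S : Z(S)| = 4` for a noncommutative `S`. -/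
structure Data (S : Subgroup G) (z : G) : Prop where
  z_ne : z ≠ 1
  z_sq : z * z = 1
  z_mem : z ∈ cen S
  comm_or : ∀ a ∈ S, ∀ b ∈ S, a * b = b * a ∨ a * b = b * a * z
  sq_mem : ∀ a ∈ S, a * a ∈ cen S
  coset : ∀ a ∈ S, a ∉ cen S → ∀ x ∈ S, x * a = a * x → x ∈ cen S ∨ a⁻¹ * x ∈ cen S
  pair : ∃ a ∈ S, ∃ b ∈ S, a * b ≠ b * a

theorem data_of_index [Finite G] (S : Subgroup G) (hna : ¬ IsMulCommutative S)
    (hZ : (center S).index = 4) : ∃ z, Data S z := by
  classical
  set Z := center S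
  have hcardQ : Nat.card (S ⧸ Z) = 4 := hZ
  haveI : Fintype (S ⧸ Z) := Fintype.ofFinite _
  -- four cosets of a non-commuting pair
  have hpair : ∀ a b : S, a * b ≠ b * a → ∀ x : S,
      x ∈ Z ∨ a⁻¹ * x ∈ Z ∨ b⁻¹ * x ∈ Z ∨ (a * b)⁻¹ * x ∈ Z := by
    intro a b hab x
    have hne : ∀ {u v : S}, (u⁻¹ * v ∈ Z → False) → (u : S ⧸ Z) ≠ v := fun h e => h (QuotientGroup.eq.1 e)
    have ha : a ∉ Z := fun h => hab (mem_center_iff.1 h b).symm
    have hb : b ∉ Z := fun h => hab (mem_center_iff.1 h a)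
    have hcard : ({((1 : S) : S ⧸ Z), (a : S ⧸ Z), (b : S ⧸ Z), ((a * b : S) : S ⧸ Z)} : Finset (S ⧸ Z)).card = 4 := by
      refine Finset.card_eq_four.2 ⟨_, _, _, _, hne ?_, hne ?_, hne ?_, hne ?_, hne ?_, hne ?_, rfl⟩
      · simpa using ha
      · simpa using hb
      · intro h
        rw [inv_one, one_mul] at h
        refine hab ?_
        have := mem_center_iff.1 h a
        calc a * b = a⁻¹ * (a * (a * b)) := (inv_mul_cancel_left _ _).symm
          _ = a⁻¹ * (a * b * a) := by rw [this]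
          _ = b * a := by group
      · intro h
        refine hab ?_
        have := mem_center_iff.1 h a
        calc a * b = a * (a * (a⁻¹ * b)) := by group
          _ = a * (a⁻¹ * b * a) := by rw [this]
          _ = b * a := by group
      · simpa using hb
      · intro h
        refine hab ?_
        have := mem_center_iff.1 h b
        rw [show b⁻¹ * (a * b) = b⁻¹ * a * b by group] at this
        symm
        calc b * a = b * (b * (b⁻¹ * a * b)) * b⁻¹ := by group
          _ = b * (b⁻¹ * a * b * b) * b⁻¹ := by rw [this]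
          _ = a * b := by group
    have hu := Finset.eq_univ_of_card _ (by rw [hcard, ← Nat.card_eq_fintype_card, hcardQ])
    have hx := hu ▸ Finset.mem_univ (x : S ⧸ Z)
    simp only [Finset.mem_insert, Finset.mem_singleton] at hx
    rcases hx with h | h | h | h
    · exact Or.inl (by simpa using QuotientGroup.eq.1 h.symm)
    · exact Or.inr (Or.inl (QuotientGroup.eq.1 h.symm))
    · exact Or.inr (Or.inr (Or.inl (QuotientGroup.eq.1 h.symm)))
    · exact Or.inr (Or.inr (Or.inr (QuotientGroup.eq.1 h.symm)))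
  -- commuting with a non-central element
  have hcoset : ∀ a : S, a ∉ Z → ∀ x : S, x * a = a * x → x ∈ Z ∨ a⁻¹ * x ∈ Z := by
    intro a ha x hx
    obtain ⟨b, hb⟩ : ∃ b, a * b ≠ b * a := by
      by_contra h
      push Not at h
      exact ha (mem_center_iff.2 fun g => (h g).symm)
    rcases hpair a b hb x with h | h | h | h
    · exact Or.inl h
    · exact Or.inr h
    · refine absurd ?_ hb
      have h1 := mem_center_iff.1 h a
      calc a * b = a * b * (b⁻¹ * x) * x⁻¹ * b := by group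
        _ = a * x * x⁻¹ * b := by group
        _ = _ := by
          have : a * (b⁻¹ * x) = b⁻¹ * x * a := h1
          rw [mul_assoc (b⁻¹) x a, hx, ← mul_assoc b⁻¹ a x] at this
          have h2 : a * b⁻¹ = b⁻¹ * a := mul_right_cancel (b := x) (by rw [mul_assoc, this])
          calc a * x * x⁻¹ * b = b * (b⁻¹ * a) * b := by group
            _ = b * (a * b⁻¹) * b := by rw [h2]
            _ = b * a := by group
    · refine absurd ?_ hb
      have h1 := mem_center_iff.1 h a
      have : a * (b⁻¹ * a⁻¹) * x = b⁻¹ * a⁻¹ * a * x := by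
        calc a * (b⁻¹ * a⁻¹) * x = a * ((a * b)⁻¹ * x) := by group
          _ = (a * b)⁻¹ * x * a := h1
          _ = (a * b)⁻¹ * (a * x) := by rw [mul_assoc, hx]
          _ = _ := by group
      have h2 := mul_right_cancel this
      calc a * b = b * (b⁻¹ * a⁻¹ * a) * a * b := by group
        _ = b * (a * (b⁻¹ * a⁻¹)) * a * b := by rw [h2]
        _ = b * a := by group
  have hsq : ∀ a : S, a * a ∈ Z := by
    intro a
    by_cases ha : a ∈ Z
    · exact Z.mul_mem ha ha
    rcases hcoset a ha (a * a) (mul_assoc _ _ _) with h | h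
    · exact h
    · rw [inv_mul_cancel_left] at h; exact absurd h ha
  -- the commutator
  obtain ⟨a, b, hab⟩ : ∃ a b : S, a * b ≠ b * a := by
    by_contra h
    push Not at h
    exact hna ⟨⟨h⟩⟩
  set z : S := (b * a)⁻¹ * (a * b) with hz
  have hab' : a * b = b * a * z := by rw [hz, mul_inv_cancel_left]
  have hzZ : z ∈ Z := by
    rw [hz, show (b * a)⁻¹ * (a * b) = (a⁻¹ * a⁻¹) * (a * b⁻¹ * (a * b⁻¹)) * (b * b) by group]
    exact Z.mul_mem (Z.mul_mem (by simpa using Z.inv_mem (hsq a)) (hsq _)) (hsq b)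
  have hzc : ∀ g : S, g * z = z * g := mem_center_iff.1 hzZ
  have hz2 : z * z = 1 := by
    have h1 : a * a * b = b * (a * a) := (mem_center_iff.1 (hsq a) b).symm
    have h2 : a * a * b = b * (a * a) * (z * z) := by
      calc a * a * b = a * (a * b) := mul_assoc _ _ _
        _ = a * (b * a * z) := by rw [hab']
        _ = (a * b) * a * z := by group
        _ = b * a * z * a * z := by rw [hab']
        _ = b * a * (a * z) * z := by rw [hzc a]; group
        _ = _ := by group
    rw [h1] at h2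
    exact left_eq_mul.1 h2
  have hz1 : z ≠ 1 := fun h => hab (by rw [hab', h, mul_one])
  refine ⟨z, fun h => hz1 (Subtype.ext h), congrArg Subtype.val hz2, mem_cen.2 ⟨z.2, fun y hy =>
    congrArg Subtype.val (hzc ⟨y, hy⟩)⟩, ?_, ?_, ?_, ⟨a, a.2, b, b.2, fun h => hab (Subtype.ext h)⟩⟩
  · intro x hx y hy
    suffices h : ∀ x y : S, x * y = y * x ∨ x * y = y * x * z from
      (h ⟨x, hx⟩ ⟨y, hy⟩).imp (congrArg Subtype.val) (congrArg Subtype.val)
    intro x y
    -- write both in the four cosets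
    have hdec : ∀ w : S, ∃ c ∈ Z, w = c ∨ w = a * c ∨ w = b * c ∨ w = a * b * c := by
      intro w
      rcases hpair a b hab w with h | h | h | h
      · exact ⟨_, h, Or.inl rfl⟩
      · exact ⟨_, h, Or.inr (Or.inl (mul_inv_cancel_left _ _).symm)⟩
      · exact ⟨_, h, Or.inr (Or.inr (Or.inl (mul_inv_cancel_left _ _).symm))⟩
      · exact ⟨_, h, Or.inr (Or.inr (Or.inr (mul_inv_cancel_left _ _).symm))⟩
    have hstrip : ∀ (u v c d : S), c ∈ Z → d ∈ Z →
        (u * v = v * u ∨ u * v = v * u * z) → (u * c * (v * d) = v * d * (u * c) ∨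
          u * c * (v * d) = v * d * (u * c) * z) := by
      intro u v c d hc hd h
      have hc' := mem_center_iff.1 hc
      have hd' := mem_center_iff.1 hd
      have e1 : u * c * (v * d) = u * v * (c * d) := by
        rw [mul_assoc u, ← mul_assoc c, ← hc' v]; group
      have e2 : v * d * (u * c) = v * u * (c * d) := by
        rw [mul_assoc v, ← mul_assoc d, ← hd' u, mul_assoc u, ← hc' d]; group
      have e3 : v * u * z * (c * d) = v * u * (c * d) * z := by
        rw [mul_assoc (v * u), ← hzc, ← mul_assoc]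
      rw [e1, e2]
      rcases h with h | h
      · exact Or.inl (by rw [h])
      · exact Or.inr (by rw [h, e3])
    have hba : b * a = a * b * z := by rw [hab', mul_assoc, hz2, mul_one]
    have hone : ∀ w : S, (1 : S) * w = w * 1 := fun w => by rw [one_mul, mul_one]
    have haab : a * (a * b) = a * b * a * z := by
      calc a * (a * b) = a * (b * a * z) := by rw [← hab']
        _ = a * b * a * z := by group
    have hbab : b * (a * b) = a * b * b * z := by
      calc b * (a * b) = b * a * b := by group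
        _ = a * b * z * b := by rw [hba]
        _ = a * b * (z * b) := by group
        _ = a * b * (b * z) := by rw [hzc b]
        _ = a * b * b * z := by group
    have haba : a * b * a = a * (a * b) * z := by
      rw [haab, mul_assoc (a * b * a) z z, hz2, mul_one]
    have habb : a * b * b = b * (a * b) * z := by
      rw [hbab, mul_assoc (a * b * b) z z, hz2, mul_one]
    obtain ⟨c, hc, hx⟩ := hdec x
    obtain ⟨d, hd, hy⟩ := hdec y
    rcases hx with rfl | rfl | rfl | rfl <;> rcases hy with rfl | rfl | rfl | rfl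
    all_goals first
      | exact Or.inl (mem_center_iff.1 hc _).symm
      | exact Or.inl (mem_center_iff.1 hd _)
      | exact hstrip _ _ _ _ hc hd (Or.inl rfl)
      | exact hstrip _ _ _ _ hc hd (Or.inr hab')
      | exact hstrip _ _ _ _ hc hd (Or.inr hba)
      | exact hstrip _ _ _ _ hc hd (Or.inr haab)
      | exact hstrip _ _ _ _ hc hd (Or.inr hbab)
      | exact hstrip _ _ _ _ hc hd (Or.inr haba)
      | exact hstrip _ _ _ _ hc hd (Or.inr habb)
  · intro x hx
    have := hsq ⟨x, hx⟩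
    exact mem_cen.2 ⟨S.mul_mem hx hx, fun y hy => congrArg Subtype.val (mem_center_iff.1 this ⟨y, hy⟩)⟩
  · intro x hx hxc y hy hyx
    have hxn : (⟨x, hx⟩ : S) ∉ Z := fun h => hxc (mem_cen.2 ⟨hx, fun w hw =>
      congrArg Subtype.val (mem_center_iff.1 h ⟨w, hw⟩)⟩)
    rcases hcoset _ hxn ⟨y, hy⟩ (Subtype.ext hyx) with h | h
    · exact Or.inl (mem_cen.2 ⟨hy, fun w hw => congrArg Subtype.val (mem_center_iff.1 h ⟨w, hw⟩)⟩)
    · exact Or.inr (mem_cen.2 ⟨S.mul_mem (S.inv_mem hx) hy,
        fun w hw => congrArg Subtype.val (mem_center_iff.1 h ⟨w, hw⟩)⟩)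

namespace Data

variable {S : Subgroup G} {z : G} (D : Data S z)
include D

theorem z_memS : z ∈ S := D.z_mem.1

theorem z_inv : z⁻¹ = z := inv_eq_of_mul_eq_one_left D.z_sq

theorem z_comm {x : G} (hx : x ∈ S) : x * z = z * x := (mem_cen.1 D.z_mem).2 x hx

/-- Conjugation inside `S` changes an element at most by `z`. -/
theorem conj_or {s x : G} (hs : s ∈ S) (hx : x ∈ S) : s * x * s⁻¹ = x ∨ s * x * s⁻¹ = x * z := by
  rcases D.comm_or s hs x hx with h | h
  · exact Or.inl (by rw [h, mul_inv_cancel_right])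
  · right
    rw [h, mul_assoc (x * s), ← D.z_comm (S.inv_mem hs)]
    group

theorem conj_eq_of_not_comm {s x : G} (hs : s ∈ S) (hx : x ∈ S) (h : s * x ≠ x * s) :
    s * x * s⁻¹ = x * z :=
  (D.conj_or hs hx).resolve_left fun e => h (by rw [← e, inv_mul_cancel_right, e])

/-- A subgroup of `S` containing `z` is normal in `S`. -/
theorem le_normalizer_of_z_mem {M : Subgroup G} (hM : M ≤ S) (hz : z ∈ M) : S ≤ normalizer (M : Set G) := by
  intro s hs
  have key : ∀ s ∈ S, ∀ x ∈ M, s * x * s⁻¹ ∈ M := fun s hs x hx => by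
    rcases D.conj_or hs (hM hx) with h | h <;> rw [h]
    · exact hx
    · exact M.mul_mem hx hz
  refine mem_normalizer_iff.2 fun x => ⟨key s hs x, fun hx => ?_⟩
  have := key s⁻¹ (S.inv_mem hs) _ hx
  rwa [show s⁻¹ * (s * x * s⁻¹) * s⁻¹⁻¹ = x by group] at this

theorem z_mem_ax {a : G} (ha : a ∈ S) : z ∈ ax S a := mem_ax.2 ⟨D.z_memS, (D.z_comm ha).symm⟩

theorem cen_le_ax {a : G} (ha : a ∈ S) : cen S ≤ ax S a := fun x hx =>
  mem_ax.2 ⟨hx.1, ((mem_cen.1 hx).2 a ha).symm⟩

theorem mem_ax_iff {a x : G} (ha : a ∈ S) (hac : a ∉ cen S) :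
    x ∈ ax S a ↔ x ∈ cen S ∨ a⁻¹ * x ∈ cen S := by
  refine ⟨fun h => D.coset a ha hac x (mem_ax.1 h).1 (mem_ax.1 h).2, ?_⟩
  rintro (h | h)
  · exact D.cen_le_ax ha h
  · rw [← mul_inv_cancel_left a x]
    exact (ax S a).mul_mem (mem_ax.2 ⟨ha, rfl⟩) (D.cen_le_ax ha h)

theorem ax_comm {a x y : G} (ha : a ∈ S) (hac : a ∉ cen S) (hx : x ∈ ax S a) (hy : y ∈ ax S a) :
    x * y = y * x := by
  rcases (D.mem_ax_iff ha hac).1 hx with h | h
  · exact ((mem_cen.1 h).2 y hy.1).symm
  · have h1 := (mem_cen.1 h).2 y hy.1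
    have h2 : y * a = a * y := (mem_ax.1 hy).2
    calc x * y = a * ((a⁻¹ * x) * y) := by group
      _ = a * (y * (a⁻¹ * x)) := by rw [h1]
      _ = (a * y) * (a⁻¹ * x) := by group
      _ = (y * a) * (a⁻¹ * x) := by rw [h2]
      _ = y * x := by group

theorem ax_eq {a x : G} (ha : a ∈ S) (hac : a ∉ cen S) (hx : x ∈ ax S a) (hxc : x ∉ cen S) :
    ax S x = ax S a := by
  apply le_antisymm
  · intro w hw
    rw [D.mem_ax_iff ha hac]
    have h := ((D.mem_ax_iff ha hac).1 hx).resolve_left hxc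
    rcases (D.mem_ax_iff hx.1 hxc).1 hw with h' | h'
    · exact Or.inl h'
    · right
      have := (cen S).mul_mem h h'
      rwa [show a⁻¹ * x * (x⁻¹ * w) = a⁻¹ * w by group] at this
  · intro w hw
    exact mem_ax.2 ⟨hw.1, D.ax_comm ha hac hw hx⟩

/-- Any element of `S` lies in one of the four cosets of a non-commuting pair. -/
theorem cosets {a b x : G} (ha : a ∈ S) (hb : b ∈ S) (hab : a * b ≠ b * a) (hx : x ∈ S) :
    x ∈ cen S ∨ a⁻¹ * x ∈ cen S ∨ b⁻¹ * x ∈ cen S ∨ (a * b)⁻¹ * x ∈ cen S := by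
  have hac : a ∉ cen S := fun h => hab ((mem_cen.1 h).2 b hb).symm
  have hbc : b ∉ cen S := fun h => hab ((mem_cen.1 h).2 a ha)
  rcases D.conj_or hx ha with h | h
  · have hx' : x * a = a * x := by rw [← h, inv_mul_cancel_right, h]
    rcases D.coset a ha hac x hx hx' with h' | h'
    · exact Or.inl h'
    · exact Or.inr (Or.inl h')
  · -- `b⁻¹ x` commutes with `a`
    have hbx : b⁻¹ * x ∈ S := S.mul_mem (S.inv_mem hb) hx
    have hcomm : b⁻¹ * x * a = a * (b⁻¹ * x) := by
      have h1 : b * a * b⁻¹ = a * z := D.conj_eq_of_not_comm hb ha (Ne.symm hab)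
      calc b⁻¹ * x * a = b⁻¹ * (x * a * x⁻¹) * x := by group
        _ = b⁻¹ * (b * a * b⁻¹) * x := by rw [h, h1]
        _ = a * (b⁻¹ * x) := by group
    rcases D.coset a ha hac _ hbx hcomm with h' | h'
    · exact Or.inr (Or.inr (Or.inl h'))
    · right; right; right
      have e : (a * b)⁻¹ * x = z * (a⁻¹ * (b⁻¹ * x)) ∨ (a * b)⁻¹ * x = a⁻¹ * (b⁻¹ * x) := by
        left
        have h2 : a * b = b * a * z := (D.comm_or a ha b hb).resolve_left hab
        rw [h2, mul_inv_rev, D.z_inv, mul_inv_rev]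
        group
      rcases e with e | e <;> rw [e]
      · exact (cen S).mul_mem D.z_mem h'
      · exact h'

theorem ax_ne_top {a : G} (ha : a ∈ S) (hac : a ∉ cen S) : ∃ b ∈ S, a * b ≠ b * a := by
  by_contra h
  push Not at h
  exact hac (mem_cen.2 ⟨ha, fun y hy => (h y hy).symm⟩)

theorem mul_mem_ax {a x y : G} (ha : a ∈ S) (hac : a ∉ cen S) (hx : x ∈ S) (hy : y ∈ S)
    (hxn : x ∉ ax S a) (hyn : y ∉ ax S a) : x⁻¹ * y ∈ ax S a := by
  have h : ∀ {w : G}, w ∈ S → w ∉ ax S a → w * a * w⁻¹ = a * z := fun hw hwn =>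
    D.conj_eq_of_not_comm hw ha fun e => hwn (mem_ax.2 ⟨hw, e⟩)
  refine mem_ax.2 ⟨S.mul_mem (S.inv_mem hx) hy, ?_⟩
  calc x⁻¹ * y * a = x⁻¹ * (y * a * y⁻¹) * y := by group
    _ = x⁻¹ * (x * a * x⁻¹) * y := by rw [h hy hyn, h hx hxn]
    _ = a * (x⁻¹ * y) := by group

theorem card_ax [Finite G] {a : G} (ha : a ∈ S) (hac : a ∉ cen S) : (ax S a).relIndex S = 2 := by
  obtain ⟨b, hb, hab⟩ := D.ax_ne_top ha hac
  have hbn : b ∉ ax S a := fun h => hab (mem_ax.1 h).2.symm
  rw [relIndex, index_eq_two_iff]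
  refine ⟨⟨b, hb⟩⁻¹, fun x => ?_⟩
  rw [mem_subgroupOf, mem_subgroupOf, Subgroup.coe_mul, coe_inv]
  by_cases hx : (x : G) ∈ ax S a
  · refine Or.inr ⟨hx, fun h => hbn ?_⟩
    have := (ax S a).mul_mem ((ax S a).inv_mem hx) h
    rw [inv_mul_cancel_left] at this
    exact (inv_mem_iff).1 this
  · refine Or.inl ⟨?_, hx⟩
    have h := D.mul_mem_ax ha hac (S.inv_mem x.2) (S.inv_mem hb) (fun h => hx (inv_mem_iff.1 h))
      (fun h => hbn (inv_mem_iff.1 h))
    rwa [inv_inv] at h

end Data

end Cfsg.Agent.CentIndexFour
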