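import Cfsg.Agent.Lib.CentIndexFour.Active
import Mathlib.GroupTheory.IndexNormal

/-!
# Fusion in a Sylow subgroup with centre of index four (helper46, for S4594)

* `exists_conj_into` : moving a 2-subgroup into a given Sylow subgroup inside an overgroup
* `move` : a conjugation of a maximal abelian subgroup into `S` is in `N(S) N(A)`
* `fusion_induction` : fusion is generated by `N(S)` and the `N(A)`
-/

set_option autoImplicit false

namespace Cfsg.Agent.CentIndexFour

open Subgroup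
open scoped Pointwise

variable {G : Type*} [Group G] [Finite G] {S : Sylow 2 G}

theorem mem_smul_sylow {g y : G} (hy : y ∈ (S : Subgroup G)) : g * y * g⁻¹ ∈ ((g • S : Sylow 2 G) : Subgroup G) := by
  rw [Sylow.coe_subgroup_smul]
  exact ⟨y, hy, by simp⟩

theorem exists_conj_into {K P : Subgroup G} (hSK : (S : Subgroup G) ≤ K) (hP : IsPGroup 2 P) (hPK : P ≤ K) :
    ∃ c ∈ K, ∀ w ∈ P, c * w * c⁻¹ ∈ (S : Subgroup G) := by
  haveI : Fact (Nat.Prime 2) := ⟨Nat.prime_two⟩
  obtain ⟨Q, hQ⟩ := (hP.comap_of_injective K.subtype K.subtype_injective).exists_le_sylow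
  obtain ⟨c, hc⟩ := MulAction.exists_smul_eq K Q (S.subtype hSK)
  refine ⟨c, c.2, fun w hw => ?_⟩
  have h := mem_smul_sylow (S := Q) (g := c) (hQ (show (⟨w, hPK hw⟩ : K) ∈ P.comap K.subtype from hw))
  rw [hc, Sylow.coe_subtype, mem_subgroupOf] at h
  exact h

variable {z : G} (D : Data (S : Subgroup G) z)
include D

omit [Finite G] in
theorem isPGroup_ax (a : G) : IsPGroup 2 (ax (S : Subgroup G) a) := by
  cases D
  exact S.isPGroup'.to_le inf_le_left

theorem card_two_mul {a : G} (ha : a ∈ (S : Subgroup G)) (hac : a ∉ cen (S : Subgroup G)) :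
    Nat.card (S : Subgroup G) = 2 * Nat.card (ax (S : Subgroup G) a) := by
  have h := (maxAb D ha hac).relIndex
  have h1 := card_mul_index ((ax (S : Subgroup G) a).subgroupOf (S : Subgroup G))
  rw [← relIndex, h, Nat.card_congr (subgroupOfEquivOfLe (maxAb D ha hac).le).toEquiv] at h1
  omega

theorem move {y g : G} (hy : y ∈ (S : Subgroup G)) (hyc : y ∉ cen (S : Subgroup G))
    (hg : ∀ w ∈ ax (S : Subgroup G) y, g * w * g⁻¹ ∈ (S : Subgroup G)) :
    ∃ n ∈ normalizer ((S : Subgroup G) : Set G), ∃ m ∈ normalizer (ax (S : Subgroup G) y : Set G), g = n * m := by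
  classical
  haveI : Fact (Nat.Prime 2) := ⟨Nat.prime_two⟩
  set A := ax (S : Subgroup G) y
  set B := A.map (MulAut.conj g).toMonoidHom with hB
  have hBS : B ≤ (S : Subgroup G) := by
    rintro _ ⟨w, hw, rfl⟩
    exact hg w hw
  have hidx : (B.subgroupOf (S : Subgroup G)).index = 2 := by
    have h1 := card_mul_index (B.subgroupOf (S : Subgroup G))
    rw [Nat.card_congr (subgroupOfEquivOfLe hBS).toEquiv, hB,
      ← Nat.card_congr (A.equivMapOfInjective _ (MulAut.conj g).injective).toEquiv, card_two_mul D hy hyc,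
      mul_comm 2] at h1
    exact Nat.eq_of_mul_eq_mul_left Nat.card_pos h1
  have hSB : (S : Subgroup G) ≤ normalizer (B : Set G) :=
    (normal_subgroupOf_iff_le_normalizer hBS).1 (Subgroup.normal_of_index_eq_two hidx)
  have hle : ((g⁻¹ • S : Sylow 2 G) : Subgroup G) ≤ normalizer (A : Set G) := by
    rw [Sylow.coe_subgroup_smul]
    rintro _ ⟨σ, hσ, rfl⟩
    simp only [MulDistribMulAction.toMonoidEnd_apply, MulDistribMulAction.toMonoidHom_apply,
      MulAut.smul_def, MulAut.conj_apply, inv_inv]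
    refine mem_normalizer_iff.2 fun w => ?_
    have e : ∀ w, w ∈ A ↔ g * w * g⁻¹ ∈ B := fun w => by
      rw [hB]
      exact (mem_map_iff_mem (f := (MulAut.conj g).toMonoidHom) (MulAut.conj g).injective).symm
    rw [e w, e (g⁻¹ * σ * g * w * (g⁻¹ * σ * g)⁻¹),
      show g * (g⁻¹ * σ * g * w * (g⁻¹ * σ * g)⁻¹) * g⁻¹ = σ * (g * w * g⁻¹) * σ⁻¹ by group]
    exact mem_normalizer_iff.1 (hSB hσ) _
  obtain ⟨k, hk⟩ := MulAction.exists_smul_eq (normalizer (A : Set G)) ((g⁻¹ • S).subtype hle)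
    (S.subtype (maxAb D hy hyc).norm)
  rw [Sylow.smul_subtype] at hk
  have hkm : (k : G) • g⁻¹ • S = S := Sylow.subtype_injective hk
  rw [smul_smul, Sylow.smul_eq_iff_mem_normalizer] at hkm
  exact ⟨((k : G) * g⁻¹)⁻¹, inv_mem hkm, k, k.2, by group⟩

theorem fusion_induction (p : G → G → Prop)
    (hn : ∀ n ∈ normalizer ((S : Subgroup G) : Set G), ∀ x ∈ (S : Subgroup G), p x (n * x * n⁻¹))
    (hm : ∀ a ∈ (S : Subgroup G), a ∉ cen (S : Subgroup G) →
      ∀ m ∈ normalizer (ax (S : Subgroup G) a : Set G), ∀ x ∈ ax (S : Subgroup G) a, p x (m * x * m⁻¹))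
    (htr : ∀ x ∈ (S : Subgroup G), ∀ y ∈ (S : Subgroup G), ∀ w ∈ (S : Subgroup G), p x y → p y w → p x w)
    {y g : G} (hy : y ∈ (S : Subgroup G)) (hgy : g * y * g⁻¹ ∈ (S : Subgroup G)) : p y (g * y * g⁻¹) := by
  classical
  haveI : Fact (Nat.Prime 2) := ⟨Nat.prime_two⟩
  have hNS : ∀ n ∈ normalizer ((S : Subgroup G) : Set G), ∀ x ∈ (S : Subgroup G), n * x * n⁻¹ ∈ (S : Subgroup G) :=
    fun n hn x hx => norm_mem hn hx
  have hself : ∀ y ∈ (S : Subgroup G), y ∈ ax (S : Subgroup G) y := fun y hy => mem_ax.2 ⟨hy, rfl⟩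
  have via : ∀ y ∈ (S : Subgroup G), y ∉ cen (S : Subgroup G) → ∀ g : G,
      (∀ w ∈ ax (S : Subgroup G) y, g * w * g⁻¹ ∈ (S : Subgroup G)) → p y (g * y * g⁻¹) := by
    intro y hy hyc g hg
    obtain ⟨n, hn', m, hm', rfl⟩ := move D hy hyc hg
    have h1 := norm_mem hm' (hself y hy)
    rw [show n * m * y * (n * m)⁻¹ = n * (m * y * m⁻¹) * n⁻¹ by group]
    exact htr _ hy _ h1.1 _ (hNS n hn' _ h1.1) (hm y hy hyc m hm' y (hself y hy)) (hn n hn' _ h1.1)
  have via_inv : ∀ y ∈ (S : Subgroup G), y ∉ cen (S : Subgroup G) → ∀ g : G,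
      (∀ w ∈ ax (S : Subgroup G) y, g * w * g⁻¹ ∈ (S : Subgroup G)) → p (g * y * g⁻¹) y := by
    intro y hy hyc g hg
    obtain ⟨n, hn', m, hm', rfl⟩ := move D hy hyc hg
    have h1 := norm_mem hm' (hself y hy)
    rw [show n * m * y * (n * m)⁻¹ = n * (m * y * m⁻¹) * n⁻¹ by group]
    refine htr _ (hNS n hn' _ h1.1) _ h1.1 _ hy ?_ ?_
    · have := hn n⁻¹ (inv_mem hn') _ (hNS n hn' _ h1.1)
      rwa [show n⁻¹ * (n * (m * y * m⁻¹) * n⁻¹) * n⁻¹⁻¹ = m * y * m⁻¹ by group] at this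
    · have := hm y hy hyc m⁻¹ (inv_mem hm') _ h1
      rwa [show m⁻¹ * (m * y * m⁻¹) * m⁻¹⁻¹ = y by group] at this
  -- a conjugation carrying `y` to a central element may be taken to carry `ax y` into `S`
  have adjust : ∀ y ∈ (S : Subgroup G), ∀ g : G, g * y * g⁻¹ ∈ cen (S : Subgroup G) →
      ∃ g' : G, g' * y * g'⁻¹ = g * y * g⁻¹ ∧ ∀ w ∈ ax (S : Subgroup G) y, g' * w * g'⁻¹ ∈ (S : Subgroup G) := by
    intro y hy g hgy
    set x := g * y * g⁻¹ with hx
    obtain ⟨c, hc, hcw⟩ := exists_conj_into (S := S) (K := centralizer ({x} : Set G))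
      (P := (ax (S : Subgroup G) y).map (MulAut.conj g).toMonoidHom)
      (fun w hw => mem_centralizer_singleton_iff.2 ((mem_cen.1 hgy).2 w hw))
      ((isPGroup_ax D y).map _) (by
        rintro _ ⟨w, hw, rfl⟩
        refine mem_centralizer_singleton_iff.2 ?_
        show g * w * g⁻¹ * x = x * (g * w * g⁻¹)
        rw [hx]
        calc g * w * g⁻¹ * (g * y * g⁻¹) = g * (w * y) * g⁻¹ := by group
          _ = g * (y * w) * g⁻¹ := by rw [(mem_ax.1 hw).2]
          _ = _ := by group)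
    refine ⟨c * g, ?_, fun w hw => ?_⟩
    · calc c * g * y * (c * g)⁻¹ = c * (g * y * g⁻¹) * c⁻¹ := by group
        _ = g * y * g⁻¹ := by
          rw [← hx, mem_centralizer_singleton_iff.1 hc, mul_inv_cancel_right]
    · have := hcw (g * w * g⁻¹) ⟨w, hw, by simp⟩
      rwa [show c * g * w * (c * g)⁻¹ = c * (g * w * g⁻¹) * c⁻¹ by group]
  have central_target : ∀ y ∈ (S : Subgroup G), y ∉ cen (S : Subgroup G) → ∀ g : G,
      g * y * g⁻¹ ∈ cen (S : Subgroup G) → p y (g * y * g⁻¹) ∧ p (g * y * g⁻¹) y := by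
    intro y hy hyc g hgy
    obtain ⟨g', he, hg'⟩ := adjust y hy g hgy
    rw [← he]
    exact ⟨via y hy hyc g' hg', via_inv y hy hyc g' hg'⟩
  set x := g * y * g⁻¹ with hx
  by_cases hxc : x ∈ cen (S : Subgroup G)
  · by_cases hyc : y ∈ cen (S : Subgroup G)
    · obtain ⟨n, hn', he⟩ := S.conj_eq_normalizer_conj_of_mem_centralizer y g⁻¹ hyc.2
        (by rw [inv_inv, ← hx]; exact hxc.2)
      rw [inv_inv, ← hx] at he
      rw [he]
      simpa using hn n⁻¹ (inv_mem hn') y hy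
    · exact (central_target y hy hyc g hxc).1
  by_cases hyc : y ∈ cen (S : Subgroup G)
  · have e : g⁻¹ * x * g⁻¹⁻¹ = y := by rw [hx]; group
    have := (central_target x hgy hxc g⁻¹ (by rwa [e])).2
    rwa [e] at this
  by_cases hbig : ∃ P : Subgroup G, P ≤ centralizer ({y} : Set G) ∧ IsPGroup 2 P ∧
      Nat.card P = Nat.card (S : Subgroup G)
  · obtain ⟨P, hPy, hP, hcard⟩ := hbig
    obtain ⟨Q, hQ⟩ := hP.exists_le_sylow
    obtain ⟨h, hh⟩ := MulAction.exists_smul_eq G Q S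
    have hPQ : P = (Q : Subgroup G) := eq_of_le_of_card_ge hQ (by
      rw [hcard, Sylow.card_eq_multiplicity, Sylow.card_eq_multiplicity])
    have hcent : h * y * h⁻¹ ∈ centralizer ((S : Subgroup G) : Set G) := by
      refine mem_centralizer_iff.2 fun w hw => ?_
      rw [← hh, SetLike.mem_coe, Sylow.coe_subgroup_smul] at hw
      obtain ⟨q, hq, rfl⟩ := hw
      simp only [MulDistribMulAction.toMonoidEnd_apply, MulDistribMulAction.toMonoidHom_apply,
        MulAut.smul_def, MulAut.conj_apply]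
      have hqy : q * y = y * q := mem_centralizer_singleton_iff.1 (hPy (hPQ ▸ hq))
      calc h * q * h⁻¹ * (h * y * h⁻¹) = h * (q * y) * h⁻¹ := by group
        _ = h * (y * q) * h⁻¹ := by rw [hqy]
        _ = _ := by group
    have hx0 : h * y * h⁻¹ ∈ cen (S : Subgroup G) := by
      refine ⟨?_, hcent⟩
      have h2 : IsPGroup 2 (zpowers (h * y * h⁻¹)) := by
        have := (S.isPGroup'.to_le (zpowers_le.2 hy)).map (MulAut.conj h).toMonoidHom
        rwa [MonoidHom.map_zpowers] at this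
      have h3 := IsPGroup.to_sup_of_normal_right' h2 S.isPGroup'
        (zpowers_le.2 (centralizer_le_normalizer _ hcent))
      exact S.is_maximal' h3 le_sup_right ▸ mem_sup_left (mem_zpowers _)
    have h1 := (central_target y hy hyc h hx0).1
    have e : g * h⁻¹ * (h * y * h⁻¹) * (g * h⁻¹)⁻¹ = x := by rw [hx]; group
    have e' : h * g⁻¹ * x * (h * g⁻¹)⁻¹ = h * y * h⁻¹ := by rw [hx]; group
    have h2 := (central_target x hgy hxc (h * g⁻¹) (by rwa [e'])).2
    rw [e'] at h2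
    exact htr _ hy _ hx0.1 _ hgy h1 h2
  -- `ax x` is a Sylow subgroup of the centraliser of `x`
  push Not at hbig
  set Cx := centralizer ({x} : Set G)
  have hAC : ax (S : Subgroup G) x ≤ Cx := inf_le_right
  obtain ⟨Q, hQ⟩ := ((isPGroup_ax D x).comap_of_injective Cx.subtype Cx.subtype_injective).exists_le_sylow
  set Qm := (Q : Subgroup Cx).map Cx.subtype
  have hQm : IsPGroup 2 Qm := Q.isPGroup'.map _
  have hAQ : ax (S : Subgroup G) x ≤ Qm := fun w hw => ⟨⟨w, hAC hw⟩, hQ hw, rfl⟩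
  have hQA : Qm = ax (S : Subgroup G) x := by
    obtain ⟨R, hR⟩ := hQm.exists_le_sylow
    have hd : Nat.card Qm ∣ Nat.card (S : Subgroup G) := by
      refine (Subgroup.card_dvd_of_le hR).trans (dvd_of_eq ?_)
      rw [Sylow.card_eq_multiplicity, Sylow.card_eq_multiplicity]
    have hd' := Subgroup.card_dvd_of_le hAQ
    rw [card_two_mul D hgy hxc] at hd
    obtain ⟨k, hk⟩ := hd'
    rw [hk] at hd
    have hk2 : k ∣ 2 := by
      rw [mul_comm 2] at hd
      exact Nat.dvd_of_mul_dvd_mul_left Nat.card_pos hd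
    rcases (Nat.dvd_prime Nat.prime_two).1 hk2 with h | h
    · exact (eq_of_le_of_card_ge hAQ (by rw [hk, h, mul_one])).symm
    · exfalso
      refine hbig (Qm.map (MulAut.conj g⁻¹).toMonoidHom) ?_ (hQm.map _) ?_
      · rintro _ ⟨w, ⟨q, -, rfl⟩, rfl⟩
        have hqx : (q : G) * x = x * q := mem_centralizer_singleton_iff.1 q.2
        refine mem_centralizer_singleton_iff.2 ?_
        show g⁻¹ * (q : G) * g⁻¹⁻¹ * y = y * (g⁻¹ * (q : G) * g⁻¹⁻¹)
        calc g⁻¹ * (q : G) * g⁻¹⁻¹ * y = g⁻¹ * ((q : G) * x) * g := by rw [hx]; group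
          _ = g⁻¹ * (x * q) * g := by rw [hqx]
          _ = _ := by rw [hx]; group
      · rw [← Nat.card_congr (Qm.equivMapOfInjective _ (MulAut.conj g⁻¹).injective).toEquiv, hk, h,
          card_two_mul D hgy hxc, mul_comm]
  set B := (ax (S : Subgroup G) y).map (MulAut.conj g).toMonoidHom
  have hBC : B ≤ Cx := by
    rintro _ ⟨w, hw, rfl⟩
    refine mem_centralizer_singleton_iff.2 ?_
    show g * w * g⁻¹ * x = x * (g * w * g⁻¹)
    rw [hx]
    calc g * w * g⁻¹ * (g * y * g⁻¹) = g * (w * y) * g⁻¹ := by group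
      _ = g * (y * w) * g⁻¹ := by rw [(mem_ax.1 hw).2]
      _ = _ := by group
  obtain ⟨R, hR⟩ := (((isPGroup_ax D y).map _).comap_of_injective Cx.subtype Cx.subtype_injective :
    IsPGroup 2 (B.comap Cx.subtype)).exists_le_sylow
  obtain ⟨c, hc⟩ := MulAction.exists_smul_eq Cx R Q
  have hcg : (c : G) * g * y * ((c : G) * g)⁻¹ = x := by
    calc (c : G) * g * y * ((c : G) * g)⁻¹ = c * x * (c : G)⁻¹ := by rw [hx]; group
      _ = x := by rw [mem_centralizer_singleton_iff.1 c.2, mul_inv_cancel_right]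
  rw [← hcg]
  refine via y hy hyc _ fun w hw => ?_
  have hwB : g * w * g⁻¹ ∈ B := ⟨w, hw, by simp⟩
  have h := mem_smul_sylow (S := R) (g := c) (hR (show (⟨_, hBC hwB⟩ : Cx) ∈ B.comap Cx.subtype from hwB))
  rw [hc] at h
  have h' : (c : G) * (g * w * g⁻¹) * (c : G)⁻¹ ∈ Qm := ⟨_, h, rfl⟩
  rw [hQA] at h'
  rw [show (c : G) * g * w * ((c : G) * g)⁻¹ = (c : G) * (g * w * g⁻¹) * (c : G)⁻¹ by group]
  exact h'.1

end Cfsg.Agent.CentIndexFour
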