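import Cfsg.Agent.Lib.CentIndexFour.Fusion
import Cfsg.Agent.Lib.ZStar.Apply
import Cfsg.Agent.Lib.ZStar.Unique

/-!
# The normaliser of the Sylow subgroup (helper46, for S4594)

* `exists_active` : in a core-free group with trivial centre some maximal abelian subgroup is active
* `no_three_active` : three different active subgroups are impossible
* `normalizer_fix` : the normaliser of `S` fixes every coset of the centre
-/

set_option autoImplicit false
set_option linter.style.haveILetI false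

namespace Cfsg.Agent.CentIndexFour

open Subgroup

variable {G : Type*} [Group G] [Finite G] {S : Sylow 2 G} {z : G} (D : Data (S : Subgroup G) z)
include D

omit [Finite G] in
theorem z_fixed {n : G} (hn : n ∈ normalizer ((S : Subgroup G) : Set G)) : n * z * n⁻¹ = z := by
  obtain ⟨a, ha, b, hb, hab⟩ := D.pair
  have ha' := norm_mem hn ha
  have hb' := norm_mem hn hb
  have e : a * b = b * a * z := (D.comm_or a ha b hb).resolve_left hab
  have e1 : n * a * n⁻¹ * (n * b * n⁻¹) = n * b * n⁻¹ * (n * a * n⁻¹) * (n * z * n⁻¹) := by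
    rw [show n * a * n⁻¹ * (n * b * n⁻¹) = n * (a * b) * n⁻¹ by group, e]
    group
  rcases D.comm_or _ ha' _ hb' with h | h
  · exfalso
    rw [show n * a * n⁻¹ * (n * b * n⁻¹) = n * (a * b) * n⁻¹ by group,
      show n * b * n⁻¹ * (n * a * n⁻¹) = n * (b * a) * n⁻¹ by group] at h
    exact hab (mul_left_cancel (mul_right_cancel h))
  · exact mul_left_cancel (e1.symm.trans h)

omit [Finite G] in
theorem conj_cen {n x : G} (hn : n ∈ normalizer ((S : Subgroup G) : Set G)) (hx : x ∈ cen (S : Subgroup G)) :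
    n * x * n⁻¹ ∈ cen (S : Subgroup G) := by
  cases D
  refine mem_cen.2 ⟨norm_mem hn hx.1, fun y hy => ?_⟩
  have hy' : n⁻¹ * y * n ∈ (S : Subgroup G) := by simpa using norm_mem (inv_mem hn) hy
  have h1 := (mem_cen.1 hx).2 _ hy'
  calc y * (n * x * n⁻¹) = n * (n⁻¹ * y * n * x) * n⁻¹ := by group
    _ = n * (x * (n⁻¹ * y * n)) * n⁻¹ := by rw [h1]
    _ = n * x * n⁻¹ * y := by group

omit [Finite G] in
theorem conj_not_cen {n x : G} (hn : n ∈ normalizer ((S : Subgroup G) : Set G)) (hxc : x ∉ cen (S : Subgroup G)) :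
    n * x * n⁻¹ ∉ cen (S : Subgroup G) := fun h => hxc (by
  have := conj_cen D (inv_mem hn) h
  rwa [show n⁻¹ * (n * x * n⁻¹) * n⁻¹⁻¹ = x by group] at this)

omit [Finite G] in
theorem conj_ax {n a w : G} (hn : n ∈ normalizer ((S : Subgroup G) : Set G)) :
    n * w * n⁻¹ ∈ ax (S : Subgroup G) (n * a * n⁻¹) ↔ w ∈ ax (S : Subgroup G) a := by
  cases D
  rw [mem_ax, mem_ax, show n * w * n⁻¹ * (n * a * n⁻¹) = n * (w * a) * n⁻¹ by group,
    show n * a * n⁻¹ * (n * w * n⁻¹) = n * (a * w) * n⁻¹ by group, mul_left_inj, mul_right_inj]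
  exact ⟨fun h => ⟨(mem_normalizer_iff.1 hn w).2 h.1, h.2⟩, fun h => ⟨norm_mem hn h.1, h.2⟩⟩

omit [Finite G] in
theorem conj_active {n a : G} (hn : n ∈ normalizer ((S : Subgroup G) : Set G))
    (hv : Active (ax (S : Subgroup G) a) z) : Active (ax (S : Subgroup G) (n * a * n⁻¹)) z := by
  obtain ⟨h, hh, hne⟩ := hv
  refine ⟨n * h * n⁻¹, mem_normalizer_iff.2 fun w => ?_, fun e => hne ?_⟩
  · have e : ∀ w : G, w ∈ ax (S : Subgroup G) (n * a * n⁻¹) ↔ n⁻¹ * w * n ∈ ax (S : Subgroup G) a := fun w => by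
      rw [← conj_ax D hn (w := n⁻¹ * w * n), show n * (n⁻¹ * w * n) * n⁻¹ = w by group]
    rw [e, e, show n⁻¹ * (n * h * n⁻¹ * w * (n * h * n⁻¹)⁻¹) * n = h * (n⁻¹ * w * n) * h⁻¹ by group]
    exact mem_normalizer_iff.1 hh _
  · have hz := z_fixed D hn
    have h1 : n⁻¹ * z * n = z := by
      calc n⁻¹ * z * n = n⁻¹ * (n * z * n⁻¹) * n := by rw [hz]
        _ = z := by group
    calc h * z * h⁻¹ = h * (n⁻¹ * z * n) * h⁻¹ := by rw [h1]
      _ = n⁻¹ * (n * h * n⁻¹ * z * (n * h * n⁻¹)⁻¹) * n := by group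
      _ = z := by rw [e, h1]

omit [Finite G] in
theorem normalizes_ax {n a : G} (hn : n ∈ normalizer ((S : Subgroup G) : Set G)) (ha : a ∈ (S : Subgroup G))
    (hac : a ∉ cen (S : Subgroup G)) (h : n * a * n⁻¹ ∈ ax (S : Subgroup G) a) :
    n ∈ normalizer (ax (S : Subgroup G) a : Set G) := by
  refine mem_normalizer_iff.2 fun w => ?_
  rw [← conj_ax D hn, D.ax_eq ha hac h (conj_not_cen D hn hac)]

/-- If `n²` normalises `ax a`, so does `n`: the automiser of `S` has odd order. -/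
theorem normalizes_of_sq {n a : G} (hn : n ∈ normalizer ((S : Subgroup G) : Set G)) (ha : a ∈ (S : Subgroup G))
    (hac : a ∉ cen (S : Subgroup G)) (h : n ^ 2 ∈ normalizer (ax (S : Subgroup G) a : Set G)) :
    n ∈ normalizer (ax (S : Subgroup G) a : Set G) := by
  haveI : Fact (Nat.Prime 2) := ⟨Nat.prime_two⟩
  set N := normalizer ((S : Subgroup G) : Set G)
  haveI : ((S : Subgroup G).subgroupOf N).Normal := normal_in_normalizer
  set j := ((S : Subgroup G).subgroupOf N).index
  have hj : ¬ 2 ∣ j := fun h => S.not_dvd_index (h.trans (relIndex_dvd_index_of_le le_normalizer))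
  have hmem : n ^ j ∈ (S : Subgroup G) := by
    have := pow_index_mem ((S : Subgroup G).subgroupOf N) (⟨n, hn⟩ : N)
    simpa [mem_subgroupOf] using this
  have h1 := (maxAb D ha hac).norm hmem
  obtain ⟨i, hi⟩ : ∃ i, j = 2 * i + 1 := ⟨j / 2, by omega⟩
  rw [hi, pow_add, pow_mul, pow_one] at h1
  have := mul_mem (inv_mem (pow_mem h i)) h1
  rwa [inv_mul_cancel_left] at this

theorem exists_active (hO : Cfsg.pPrimeCore 2 G = ⊥) (hZ : center G = ⊥) :
    ∃ a ∈ (S : Subgroup G), a ∉ cen (S : Subgroup G) ∧ Active (ax (S : Subgroup G) a) z := by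
  haveI : Fact (Nat.Prime 2) := ⟨Nat.prime_two⟩
  by_contra hcon
  push Not at hcon
  refine D.z_ne (mem_bot.1 (hZ ▸ ZStar.isolated_mem_center ZStar.uniqueInvolution
    ⟨orderOf_eq_prime (by rw [pow_two, D.z_sq]) D.z_ne, fun g hc => ?_⟩ hO))
  set w := g * z * g⁻¹
  have hw : IsPGroup 2 (zpowers w) := fun x => ⟨1, Subtype.ext (by
    obtain ⟨i, hi⟩ := mem_zpowers_iff.1 x.2
    have hw2 : w ^ (2 : ℤ) = 1 := by
      rw [zpow_two, show w * w = g * (z * z) * g⁻¹ by simp only [w]; group, D.z_sq]; group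
    rw [pow_one, Subgroup.coe_pow, Subgroup.coe_one, ← hi, ← zpow_natCast, ← zpow_mul, mul_comm, zpow_mul,
      Nat.cast_ofNat, hw2, one_zpow])⟩
  obtain ⟨c, hc', hcw⟩ := exists_conj_into (S := S) (K := centralizer ({z} : Set G)) (P := zpowers w)
    (fun y hy => mem_centralizer_singleton_iff.2 (D.z_comm hy)) hw
    (zpowers_le.2 (mem_centralizer_singleton_iff.2 hc.eq.symm))
  have hzS : c * g * z * (c * g)⁻¹ ∈ (S : Subgroup G) := by
    have := hcw w (mem_zpowers w)
    rwa [show c * g * z * (c * g)⁻¹ = c * (g * z * g⁻¹) * c⁻¹ by group]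
  have key := fusion_induction D (fun x y => x = z → y = z)
    (fun n hn x _ hx => by rw [hx]; exact z_fixed D hn)
    (fun a ha hac m hm x _ hx => by
      have h0 := hcon a ha hac
      rw [Active] at h0
      push Not at h0
      rw [hx]; exact h0 m hm)
    (fun x _ y _ w _ h1 h2 h => h2 (h1 h)) D.z_memS hzS rfl
  calc g * z * g⁻¹ = c⁻¹ * (c * g * z * (c * g)⁻¹) * c := by group
    _ = z := by rw [key, mul_assoc, ← mem_centralizer_singleton_iff.1 hc', inv_mul_cancel_left]

theorem no_three_active {a b c : G} (ha : a ∈ (S : Subgroup G)) (hac : a ∉ cen (S : Subgroup G))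
    (hb : b ∈ (S : Subgroup G)) (hbc : b ∉ cen (S : Subgroup G))
    (hc : c ∈ (S : Subgroup G)) (hcc : c ∉ cen (S : Subgroup G))
    (hva : Active (ax (S : Subgroup G) a) z) (hvb : Active (ax (S : Subgroup G) b) z)
    (hvc : Active (ax (S : Subgroup G) c) z)
    (hab : b ∉ ax (S : Subgroup G) a) (hca : c ∉ ax (S : Subgroup G) a) (hcb : c ∉ ax (S : Subgroup G) b) :
    False := by
  obtain ⟨va, hA, hAc, hA2, -, -, hsq, -, -⟩ := active_data D ha hac hva
  obtain ⟨vb, hB, hBc, hB2, -, -, -, -, -⟩ := active_data D hb hbc hvb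
  obtain ⟨vc, hC, hCc, hC2, -, -, -, -, -⟩ := active_data D hc hcc hvc
  have eA := D.ax_eq ha hac hA hAc
  have eB := D.ax_eq hb hbc hB hBc
  have eC := D.ax_eq hc hcc hC hCc
  have hne : va * vb ≠ vb * va := fun h => by
    have h1 : vb ∈ ax (S : Subgroup G) va := mem_ax.2 ⟨hB.1, h.symm⟩
    have h2 := D.ax_eq hA.1 hAc h1 hBc
    rw [eB, eA] at h2
    exact hab (h2 ▸ mem_ax.2 ⟨hb, rfl⟩)
  have hout : ∀ {d vd}, d ∈ (S : Subgroup G) → d ∉ cen (S : Subgroup G) → vd ∈ ax (S : Subgroup G) d →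
      vd ∉ cen (S : Subgroup G) → c ∉ ax (S : Subgroup G) d → vd⁻¹ * vc ∉ cen (S : Subgroup G) := by
    intro d vd hd hdc hvd hvdc hcd h
    have h1 : vc ∈ ax (S : Subgroup G) vd := (D.mem_ax_iff hvd.1 hvdc).2 (Or.inr h)
    have h2 := D.ax_eq hvd.1 hvdc h1 hCc
    rw [eC, D.ax_eq hd hdc hvd hvdc] at h2
    exact hcd (h2 ▸ mem_ax.2 ⟨hc, rfl⟩)
  rcases D.cosets hA.1 hB.1 hne hC.1 with h | h | h | h
  · exact hCc h
  · exact hout ha hac hA hAc hca h
  · exact hout hb hbc hB hBc hcb h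
  · set e := (va * vb)⁻¹ * vc
    apply hsq e h
    have hvc' : vc = va * vb * e := (mul_inv_cancel_left _ _).symm
    have hz' : va * vb = vb * va * z := (D.comm_or _ hA.1 _ hB.1).resolve_left hne
    have hsq2 : va * vb * (va * vb) = z := by
      have : vb * va = va * vb * z := by rw [hz', mul_assoc, D.z_sq, mul_one]
      calc va * vb * (va * vb) = va * (vb * va) * vb := by group
        _ = va * (va * vb * z) * vb := by rw [this]
        _ = (va * va) * vb * (z * vb) := by group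
        _ = vb * (vb * z) := by rw [hA2, one_mul, D.z_comm hB.1]
        _ = z := by rw [← mul_assoc, hB2, one_mul]
    have hec : e * (va * vb) = va * vb * e :=
      ((mem_cen.1 h).2 _ ((S : Subgroup G).mul_mem hA.1 hB.1)).symm
    have h1 : z * (e * e) = 1 := by
      calc z * (e * e) = va * vb * (va * vb) * (e * e) := by rw [hsq2]
        _ = va * vb * ((va * vb) * e) * e := by group
        _ = va * vb * (e * (va * vb)) * e := by rw [hec]
        _ = vc * vc := by rw [hvc']; group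
        _ = 1 := hC2
    rw [← D.z_inv]
    exact eq_inv_of_mul_eq_one_right h1

/-- The normaliser of `S` fixes every coset of the centre. -/
theorem normalizer_fix {a : G} (ha : a ∈ (S : Subgroup G)) (hac : a ∉ cen (S : Subgroup G))
    (hva : Active (ax (S : Subgroup G) a) z) {n x : G} (hn : n ∈ normalizer ((S : Subgroup G) : Set G))
    (hx : x ∈ (S : Subgroup G)) : x⁻¹ * (n * x * n⁻¹) ∈ cen (S : Subgroup G) := by
  have close : ∀ d ∈ (S : Subgroup G), d ∉ cen (S : Subgroup G) →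
      n ∈ normalizer (ax (S : Subgroup G) d : Set G) → ∀ w ∈ ax (S : Subgroup G) d, w ∉ cen (S : Subgroup G) →
        w⁻¹ * (n * w * n⁻¹) ∈ cen (S : Subgroup G) := by
    intro d hd hdc hnd w hw hwc
    have h1 := norm_mem hnd hw
    rw [← D.ax_eq hd hdc hw hwc] at h1
    exact ((D.mem_ax_iff hw.1 hwc).1 h1).resolve_left (conj_not_cen D hn hwc)
  by_cases hxc : x ∈ cen (S : Subgroup G)
  · exact (cen _).mul_mem ((cen _).inv_mem hxc) (conj_cen D hn hxc)
  -- the active subgroup is fixed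
  have hnA : n ∈ normalizer (ax (S : Subgroup G) a : Set G) := by
    by_contra hnA
    have hout : n * a * n⁻¹ ∉ ax (S : Subgroup G) a := fun h => hnA (normalizes_ax D hn ha hac h)
    have hn2 := pow_mem hn 2
    have e2 : n * (n * a * n⁻¹) * n⁻¹ = n ^ 2 * a * (n ^ 2)⁻¹ := by rw [pow_two]; group
    have h1S := norm_mem hn ha
    have h1c := conj_not_cen D hn hac
    have h2S := norm_mem hn h1S
    have h2c := conj_not_cen D hn h1c
    refine no_three_active D ha hac h1S h1c h2S h2c hva (conj_active D hn hva)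
      (conj_active D hn (conj_active D hn hva)) hout ?_ (fun h => hout ((conj_ax D hn).1 h))
    intro h
    rw [e2] at h
    exact hnA (normalizes_of_sq D hn ha hac (normalizes_ax D hn2 ha hac h))
  by_cases hxa : x ∈ ax (S : Subgroup G) a
  · exact close a ha hac hnA x hxa hxc
  refine close x hx hxc ?_ x (mem_ax.2 ⟨hx, rfl⟩) hxc
  by_contra hnx
  have hstep : ∀ w, w ∈ (S : Subgroup G) → w ∉ ax (S : Subgroup G) a → n * w * n⁻¹ ∉ ax (S : Subgroup G) a :=
    fun w _ hwa h => hwa ((mem_normalizer_iff.1 hnA w).2 h)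
  have h1S := norm_mem hn hx
  have h1c := conj_not_cen D hn hxc
  have h2S := norm_mem hn h1S
  have h2c := conj_not_cen D hn h1c
  have h1a := hstep x hx hxa
  have h2a := hstep _ h1S h1a
  have h1x : n * x * n⁻¹ ∉ ax (S : Subgroup G) x := fun h => hnx (normalizes_ax D hn hx hxc h)
  have h21 : n * (n * x * n⁻¹) * n⁻¹ ∉ ax (S : Subgroup G) (n * x * n⁻¹) := fun h => h1x ((conj_ax D hn).1 h)
  apply hnx
  refine normalizes_of_sq D hn hx hxc (normalizes_ax D (pow_mem hn 2) hx hxc ?_)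
  have hne : a * x ≠ x * a := fun h => hxa (mem_ax.2 ⟨hx, h.symm⟩)
  -- the cosets outside `ax a` are those of `x` and `a x`
  have classOf : ∀ w ∈ (S : Subgroup G), w ∉ ax (S : Subgroup G) a →
      w ∈ ax (S : Subgroup G) x ∨ (a * x)⁻¹ * w ∈ cen (S : Subgroup G) := by
    intro w hw hwa
    rcases D.cosets ha hx hne hw with h | h | h | h
    · exact absurd (D.cen_le_ax ha h) hwa
    · exact absurd ((D.mem_ax_iff ha hac).2 (Or.inr h)) hwa
    · exact Or.inl ((D.mem_ax_iff hx hxc).2 (Or.inr h))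
    · exact Or.inr h
  have h1' := (classOf _ h1S h1a).resolve_left h1x
  rcases classOf _ h2S h2a with h | h
  · rw [show n ^ 2 * x * (n ^ 2)⁻¹ = n * (n * x * n⁻¹) * n⁻¹ by rw [pow_two]; group]
    exact h
  · exfalso
    apply h21
    refine (D.mem_ax_iff h1S h1c).2 (Or.inr ?_)
    have := (cen (S : Subgroup G)).mul_mem ((cen (S : Subgroup G)).inv_mem h1') h
    rwa [show ((a * x)⁻¹ * (n * x * n⁻¹))⁻¹ * ((a * x)⁻¹ * (n * (n * x * n⁻¹) * n⁻¹)) =
      (n * x * n⁻¹)⁻¹ * (n * (n * x * n⁻¹) * n⁻¹) by group] at this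

end Cfsg.Agent.CentIndexFour
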