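import Cfsg.Agent.Lib.CentIndexFour.Basic
import Mathlib.GroupTheory.PGroup

/-!
# The automiser of a maximal abelian subgroup (helper46, for S4594)

* `Refl A t v` : `t` acts on `A` as an involution with commutator `⟨v⟩`
* `not_four`, `act_eq_of_commute` : the automiser has Sylow 2-subgroups of order two
* `Refl.move` : two reflections with different centres move each other's centre
-/

set_option autoImplicit false

namespace Cfsg.Agent.CentIndexFour

open Subgroup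

variable {G : Type*} [Group G]

theorem norm_mem {A : Subgroup G} {m x : G} (hm : m ∈ normalizer (A : Set G)) (hx : x ∈ A) :
    m * x * m⁻¹ ∈ A :=
  (mem_normalizer_iff.1 hm x).1 hx

/-- `t` acts on `A` as a transvection with centre `v`. -/
structure Refl (A : Subgroup G) (t v : G) : Prop where
  norm : t ∈ normalizer (A : Set G)
  v_mem : v ∈ A
  v_ne : v ≠ 1
  v_sq : v * v = 1
  act : ∀ x ∈ A, t * x * t⁻¹ = x ∨ t * x * t⁻¹ = x * v
  wit : ∃ x ∈ A, t * x * t⁻¹ = x * v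
  fix : t * v * t⁻¹ = v

theorem Refl.conj {A : Subgroup G} {t v : G} (R : Refl A t v) {h : G} (hh : h ∈ normalizer (A : Set G)) :
    Refl A (h * t * h⁻¹) (h * v * h⁻¹) := by
  have hback : ∀ x, h * t * h⁻¹ * x * (h * t * h⁻¹)⁻¹ = h * (t * (h⁻¹ * x * h) * t⁻¹) * h⁻¹ := fun x => by group
  refine ⟨mul_mem (mul_mem hh R.norm) (inv_mem hh), norm_mem hh R.v_mem, ?_, ?_, ?_, ?_, ?_⟩
  · intro h1; exact R.v_ne (conj_eq_one_iff.1 h1)
  · rw [show h * v * h⁻¹ * (h * v * h⁻¹) = h * (v * v) * h⁻¹ by group, R.v_sq]; group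
  · intro x hx
    have hx' : h⁻¹ * x * h ∈ A := by simpa using norm_mem (inv_mem hh) hx
    rw [hback]
    rcases R.act _ hx' with e | e <;> rw [e]
    · left; group
    · right; group
  · obtain ⟨x, hx, e⟩ := R.wit
    refine ⟨h * x * h⁻¹, norm_mem hh hx, ?_⟩
    rw [hback, show h⁻¹ * (h * x * h⁻¹) * h = x by group, e]
    group
  · rw [hback, show h⁻¹ * (h * v * h⁻¹) * h = v by group, R.fix]

variable [Finite G] (S : Sylow 2 G) {A : Subgroup G}

/-- The hypotheses on `A`. -/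
structure MaxAb (S : Sylow 2 G) (A : Subgroup G) : Prop where
  le : A ≤ (S : Subgroup G)
  comm : ∀ x ∈ A, ∀ y ∈ A, x * y = y * x
  relIndex : A.relIndex (S : Subgroup G) = 2
  norm : (S : Subgroup G) ≤ normalizer (A : Set G)

variable {S} (M : MaxAb S A)
include M

theorem MaxAb.not_four_dvd : ¬ 4 ∣ Nat.card A.normalizerMonoidHom.range := by
  haveI : Fact (Nat.Prime 2) := ⟨Nat.prime_two⟩
  rw [← Subgroup.index_ker, Subgroup.normalizerMonoidHom_ker, ← Subgroup.relIndex]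
  intro h4
  have h1 : (centralizer (A : Set G)).relIndex (normalizer (A : Set G)) ∣ A.relIndex (normalizer (A : Set G)) :=
    relIndex_dvd_of_le_left _ fun x hx => mem_centralizer_iff.2 fun y hy => M.comm y hy x hx
  rw [← relIndex_mul_relIndex A (S : Subgroup G) _ M.le M.norm, M.relIndex] at h1
  have h2 : ¬ 2 ∣ (S : Subgroup G).relIndex (normalizer (A : Set G)) := fun h =>
    S.not_dvd_index (h.trans (relIndex_dvd_index_of_le M.norm))
  obtain ⟨k, hk⟩ := h4.trans h1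
  exact h2 ⟨k, by omega⟩

theorem MaxAb.act_eq_of_commute {ρ σ : G} (hρ : ρ ∈ normalizer (A : Set G)) (hσ : σ ∈ normalizer (A : Set G))
    (hρ2 : ∀ x ∈ A, ρ * (ρ * x * ρ⁻¹) * ρ⁻¹ = x) (hσ2 : ∀ x ∈ A, σ * (σ * x * σ⁻¹) * σ⁻¹ = x)
    (hc : ∀ x ∈ A, ρ * (σ * x * σ⁻¹) * ρ⁻¹ = σ * (ρ * x * ρ⁻¹) * σ⁻¹)
    (hρn : ∃ x ∈ A, ρ * x * ρ⁻¹ ≠ x) (hσn : ∃ x ∈ A, σ * x * σ⁻¹ ≠ x) :
    ∀ x ∈ A, ρ * x * ρ⁻¹ = σ * x * σ⁻¹ := by
  haveI : Fact (Nat.Prime 2) := ⟨Nat.prime_two⟩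
  set f := A.normalizerMonoidHom
  have hf : ∀ (m : G) (hm : m ∈ normalizer (A : Set G)) (x : A),
      ((f ⟨m, hm⟩ x : A) : G) = m * x * m⁻¹ := fun m hm x => rfl
  set r : f.range := ⟨f ⟨ρ, hρ⟩, _, rfl⟩
  set s : f.range := ⟨f ⟨σ, hσ⟩, _, rfl⟩
  have hr2 : r * r = 1 := Subtype.ext (MulEquiv.ext fun x => Subtype.ext (by simpa [r, hf] using hρ2 x x.2))
  have hs2 : s * s = 1 := Subtype.ext (MulEquiv.ext fun x => Subtype.ext (by simpa [s, hf] using hσ2 x x.2))
  have hrs : r * s = s * r :=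
    Subtype.ext (MulEquiv.ext fun x => Subtype.ext (by simpa [r, s, hf] using hc x x.2))
  have hr1 : r ≠ 1 := fun e => by
    obtain ⟨x, hx, hne⟩ := hρn
    exact hne (by simpa [r, hf] using congrArg (fun (u : f.range) => (((u : MulAut A) ⟨x, hx⟩ : A) : G)) e)
  have hs1 : s ≠ 1 := fun e => by
    obtain ⟨x, hx, hne⟩ := hσn
    exact hne (by simpa [s, hf] using congrArg (fun (u : f.range) => (((u : MulAut A) ⟨x, hx⟩ : A) : G)) e)
  suffices hrs' : r = s by
    intro x hx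
    simpa [r, s, hf] using congrArg (fun (u : f.range) => (((u : MulAut A) ⟨x, hx⟩ : A) : G)) hrs'
  by_contra hne
  apply M.not_four_dvd
  let K : Subgroup f.range :=
    { carrier := {1, r, s, r * s}
      one_mem' := Or.inl rfl
      inv_mem' := by
        have hri := inv_eq_of_mul_eq_one_left hr2
        have hsi := inv_eq_of_mul_eq_one_left hs2
        intro x hx
        simp only [Set.mem_insert_iff, Set.mem_singleton_iff] at hx ⊢
        rcases hx with rfl | rfl | rfl | rfl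
        · simp
        · exact Or.inr (Or.inl hri)
        · exact Or.inr (Or.inr (Or.inl hsi))
        · exact Or.inr (Or.inr (Or.inr (by rw [mul_inv_rev, hri, hsi, hrs])))
      mul_mem' := by
        have h1 : r * (r * s) = s := by rw [← mul_assoc, hr2, one_mul]
        have h2 : r * s * r = s := by rw [hrs, mul_assoc, hr2, mul_one]
        have h3 : s * (r * s) = r := by rw [hrs, ← mul_assoc, hs2, one_mul]
        have h4 : r * s * s = r := by rw [mul_assoc, hs2, mul_one]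
        have h5 : r * s * (r * s) = 1 := by rw [← mul_assoc, h2, hs2]
        intro x y hx hy
        simp only [Set.mem_insert_iff, Set.mem_singleton_iff] at hx hy ⊢
        rcases hx with rfl | rfl | rfl | rfl <;> rcases hy with rfl | rfl | rfl | rfl <;>
          simp only [one_mul, mul_one, hr2, hs2, h1, h2, h3, h4, h5, ← hrs, true_or, or_true] }
  have hKp : IsPGroup 2 K := fun x => ⟨1, by
    rw [pow_one]
    refine Subtype.ext ?_
    rw [pow_two, Subgroup.coe_mul, Subgroup.coe_one]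
    have hx := x.2
    change (x : f.range) = 1 ∨ (x : f.range) = r ∨ (x : f.range) = s ∨ (x : f.range) = r * s at hx
    rcases hx with h | h | h | h <;> rw [h]
    · exact one_mul 1
    · exact hr2
    · exact hs2
    · calc r * s * (r * s) = r * s * (s * r) := by rw [hrs]
        _ = r * (s * s) * r := by group
        _ = 1 := by rw [hs2, mul_one, hr2]⟩
  obtain ⟨k, hk⟩ := hKp.exists_card_eq
  have h3 : 3 ≤ Nat.card K := by
    have : Function.Injective ![(⟨1, Or.inl rfl⟩ : K), ⟨r, Or.inr (Or.inl rfl)⟩, ⟨s, Or.inr (Or.inr (Or.inl rfl))⟩] := by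
      intro i j h
      fin_cases i <;> fin_cases j <;>
        first
          | rfl
          | (have h' := congrArg Subtype.val h
             simp [hr1, hs1, hne, Ne.symm hr1, Ne.symm hs1, Ne.symm hne] at h')
    simpa using Nat.card_le_card_of_injective _ this
  have hk2 : 2 ≤ k := by
    by_contra hk'
    interval_cases k <;> omega
  exact (pow_dvd_pow 2 hk2).trans (hk ▸ K.card_subgroup_dvd_card)

theorem MaxAb.not_four {ρ : G} (hρ : ρ ∈ normalizer (A : Set G))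
    (h4 : ∀ x ∈ A, ρ ^ 4 * x * (ρ ^ 4)⁻¹ = x) : ∀ x ∈ A, ρ ^ 2 * x * (ρ ^ 2)⁻¹ = x := by
  intro x hx
  by_contra hne
  haveI : Fact (Nat.Prime 2) := ⟨Nat.prime_two⟩
  set f := A.normalizerMonoidHom
  have hf : ∀ (m : G) (hm : m ∈ normalizer (A : Set G)) (x : A),
      ((f ⟨m, hm⟩ x : A) : G) = m * x * m⁻¹ := fun m hm x => rfl
  set r : f.range := ⟨f ⟨ρ, hρ⟩, _, rfl⟩
  have hpow : ∀ k : ℕ, ∀ y : A, ((((r ^ k : f.range) : MulAut A) y : A) : G) = ρ ^ k * y * (ρ ^ k)⁻¹ := by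
    intro k y
    have : ((r ^ k : f.range) : MulAut A) = f (⟨ρ, hρ⟩ ^ k) := by
      rw [SubmonoidClass.coe_pow, map_pow]
    rw [this]
    rfl
  have h4' : r ^ 2 ^ 2 = 1 := Subtype.ext (MulEquiv.ext fun y => Subtype.ext (by
    rw [hpow]
    exact h4 y y.2))
  have h2' : ¬ r ^ 2 ^ 1 = 1 := fun e => hne (by
    have := hpow (2 ^ 1) ⟨x, hx⟩
    rw [e] at this
    exact this.symm)
  have ho := orderOf_eq_prime_pow h2' h4'
  exact M.not_four_dvd (by simpa [ho] using orderOf_dvd_natCard r)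

omit M in
theorem Refl.comp {t v x : G} (R : Refl A t v) (hx : x ∈ A) (hA : ∀ x ∈ A, ∀ y ∈ A, x * y = y * x) :
    t * (t * x * t⁻¹) * t⁻¹ = x := by
  rcases R.act x hx with e | e <;> rw [e]
  · exact e
  · rw [show t * (x * v) * t⁻¹ = (t * x * t⁻¹) * (t * v * t⁻¹) by group, e, R.fix, mul_assoc, R.v_sq, mul_one]

theorem Refl.act_eq {t v t' v' : G} (R : Refl A t v) (R' : Refl A t' v') (h1 : t * v' * t⁻¹ = v')
    (h2 : t' * v * t'⁻¹ = v) : ∀ x ∈ A, t * x * t⁻¹ = t' * x * t'⁻¹ := by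
  refine M.act_eq_of_commute R.norm R'.norm (fun x hx => R.comp hx M.comm)
    (fun x hx => R'.comp hx M.comm) (fun x hx => ?_) ?_ ?_
  · have hm : ∀ a b : G, t * (a * b) * t⁻¹ = (t * a * t⁻¹) * (t * b * t⁻¹) := fun a b => by group
    have hm' : ∀ a b : G, t' * (a * b) * t'⁻¹ = (t' * a * t'⁻¹) * (t' * b * t'⁻¹) := fun a b => by group
    rcases R.act x hx with e | e <;> rcases R'.act x hx with e' | e' <;>
      simp only [e, e', hm, hm', h1, h2]
    rw [mul_assoc, mul_assoc, M.comm v R.v_mem v' R'.v_mem]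
  · obtain ⟨x, hx, e⟩ := R.wit
    exact ⟨x, hx, fun h => R.v_ne (mul_eq_left.1 (e.symm.trans h))⟩
  · obtain ⟨x, hx, e⟩ := R'.wit
    exact ⟨x, hx, fun h => R'.v_ne (mul_eq_left.1 (e.symm.trans h))⟩

theorem Refl.act_eq_of_centre {t t' v : G} (R : Refl A t v) (R' : Refl A t' v) :
    ∀ x ∈ A, t * x * t⁻¹ = t' * x * t'⁻¹ :=
  R.act_eq M R' R.fix R'.fix

/-- Reflections with different centres move the centres. -/
theorem Refl.move {t v t' v' : G} (R : Refl A t v) (R' : Refl A t' v') (hne : v ≠ v') :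
    t * v' * t⁻¹ = v' * v := by
  refine (R.act v' R'.v_mem).resolve_left fun h1 => ?_
  rcases R'.act v R.v_mem with h2 | h2
  · obtain ⟨x, hx, e⟩ := R.wit
    have h := R.act_eq M R' h1 h2 x hx
    rw [e] at h
    rcases R'.act x hx with e' | e' <;> rw [e'] at h
    · exact R.v_ne (mul_eq_left.1 h)
    · exact hne (mul_left_cancel h)
  have hvv := M.comm v R.v_mem v' R'.v_mem
  set ρ := t * t' with hρdef
  have hρ : ρ ∈ normalizer (A : Set G) := mul_mem R.norm R'.norm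
  have hρ1 : ∀ x ∈ A, ρ * x * ρ⁻¹ = t * (t' * x * t'⁻¹) * t⁻¹ := fun x _ => by rw [hρdef]; group
  have hm : ∀ a b : G, ρ * (a * b) * ρ⁻¹ = (ρ * a * ρ⁻¹) * (ρ * b * ρ⁻¹) := fun a b => by group
  have hρv' : ρ * v' * ρ⁻¹ = v' := by rw [hρ1 _ R'.v_mem, R'.fix, h1]
  have hρv : ρ * v * ρ⁻¹ = v * v' := by
    rw [hρ1 _ R.v_mem, h2, show t * (v * v') * t⁻¹ = (t * v * t⁻¹) * (t * v' * t⁻¹) by group, R.fix, h1]
  have hval : ∀ x ∈ A, (t * x * t⁻¹ = x → ρ * x * ρ⁻¹ = x ∨ ρ * x * ρ⁻¹ = x * v') ∧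
      (t * x * t⁻¹ = x * v → ρ * x * ρ⁻¹ = x * v ∨ ρ * x * ρ⁻¹ = x * v * v') := by
    intro x hx
    rw [hρ1 x hx]
    have hm' : t * (x * v') * t⁻¹ = (t * x * t⁻¹) * (t * v' * t⁻¹) := by group
    rcases R'.act x hx with e | e <;> rw [e]
    · exact ⟨fun h => Or.inl h, fun h => Or.inl h⟩
    · rw [hm', h1]
      exact ⟨fun h => Or.inr (by rw [h]), fun h => Or.inr (by rw [h])⟩
  have hsq : ∀ x ∈ A, (t * x * t⁻¹ = x → ρ ^ 2 * x * (ρ ^ 2)⁻¹ = x) ∧
      (t * x * t⁻¹ = x * v → ρ ^ 2 * x * (ρ ^ 2)⁻¹ = x * v') := by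
    intro x hx
    have e2 : ρ ^ 2 * x * (ρ ^ 2)⁻¹ = ρ * (ρ * x * ρ⁻¹) * ρ⁻¹ := by rw [pow_two]; group
    rw [e2]
    refine ⟨fun h => ?_, fun h => ?_⟩
    · rcases (hval x hx).1 h with e | e <;> rw [e]
      · exact e
      · rw [hm, e, hρv', mul_assoc, R'.v_sq, mul_one]
    · rcases (hval x hx).2 h with e | e <;> rw [e]
      · rw [hm, e, hρv]
        rw [mul_assoc, ← mul_assoc v v v', R.v_sq, one_mul]
      · rw [hm, hm, e, hρv, hρv']
        calc x * v * v' * (v * v') * v' = x * (v * v' * v * (v' * v')) := by group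
          _ = x * (v * v' * v) := by rw [R'.v_sq, mul_one]
          _ = x * v' := by rw [hvv, mul_assoc v' v v, R.v_sq, mul_one]
  have h4 : ∀ x ∈ A, ρ ^ 4 * x * (ρ ^ 4)⁻¹ = x := by
    intro x hx
    have e4 : ρ ^ 4 * x * (ρ ^ 4)⁻¹ = ρ ^ 2 * (ρ ^ 2 * x * (ρ ^ 2)⁻¹) * (ρ ^ 2)⁻¹ := by
      rw [show ρ ^ 4 = ρ ^ 2 * ρ ^ 2 from pow_add ρ 2 2, mul_inv_rev]
      simp only [mul_assoc]
    rw [e4]
    rcases R.act x hx with e | e
    · rw [(hsq x hx).1 e, (hsq x hx).1 e]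
    · rw [(hsq x hx).2 e, show ρ ^ 2 * (x * v') * (ρ ^ 2)⁻¹ = (ρ ^ 2 * x * (ρ ^ 2)⁻¹) * (ρ ^ 2 * v' * (ρ ^ 2)⁻¹) by group,
        (hsq x hx).2 e, (hsq v' R'.v_mem).1 h1, mul_assoc, R'.v_sq, mul_one]
  obtain ⟨x, hx, e⟩ := R.wit
  have := M.not_four hρ h4 x hx
  rw [(hsq x hx).2 e] at this
  exact R'.v_ne (mul_eq_left.1 this)

end Cfsg.Agent.CentIndexFour
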