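import Cfsg.Agent.Lib.CentIndexFour.Normal
import Cfsg.Agent.Lib.ClosedPair.Product
import Cfsg.Agent.Lib.PSL2.Groups
import Mathlib.GroupTheory.Focal

/-!
# Simple groups with nonabelian Sylow subgroup and centre of index four (helper46, for S4594)

* `le_of_fusion` : a subgroup containing the fusion differences contains `S` in a perfect group
* `zOne` : `[Z(S), N(S)]`
* `dihedral_of_simple` : the Sylow subgroup is dihedral of order eight
-/

set_option autoImplicit false
set_option linter.style.haveILetI false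

namespace Cfsg.Agent.CentIndexFour

open Subgroup
open scoped commutatorElement

variable {G : Type*} [Group G] [Finite G] {S : Sylow 2 G} {z : G} (D : Data (S : Subgroup G) z)
include D

theorem le_of_fusion [Group.IsPerfect G] {M : Subgroup G}
    (hn : ∀ n ∈ normalizer ((S : Subgroup G) : Set G), ∀ x ∈ (S : Subgroup G), x⁻¹ * (n * x * n⁻¹) ∈ M)
    (hW : ∀ c ∈ (S : Subgroup G), c ∉ cen (S : Subgroup G) → wGen (ax (S : Subgroup G) c) z ≤ M) :
    (S : Subgroup G) ≤ M := by
  haveI : Fact (Nat.Prime 2) := ⟨Nat.prime_two⟩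
  have h := commutator_inf_eq_focalSubgroup (G := G) S
  rw [Group.IsPerfect.commutator_eq_top, top_inf_eq] at h
  rw [h, focalSubgroup_def, closure_le]
  rintro _ ⟨hwS, x, hx, u, rfl⟩
  have hy : u * x⁻¹ * u⁻¹ ∈ (S : Subgroup G) := by
    have := (S : Subgroup G).mul_mem ((S : Subgroup G).inv_mem hx) hwS
    rwa [show x⁻¹ * ⁅x, u⁆ = u * x⁻¹ * u⁻¹ by rw [commutatorElement_def]; group] at this
  have key := fusion_induction D (fun a b => a⁻¹ * b ∈ M) hn (fun c hc hcc m hm a ha => by
      obtain ⟨n, hn', -, hd⟩ := decomp D hc hcc hm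
      have h2 := M.mul_mem (hn n hn' a ha.1) (hW c hc hcc (hd a ha).1)
      show a⁻¹ * (m * a * m⁻¹) ∈ M
      rwa [show a⁻¹ * (n * a * n⁻¹) * ((n * a * n⁻¹)⁻¹ * (m * a * m⁻¹)) = a⁻¹ * (m * a * m⁻¹) by group] at h2)
    (fun a _ b _ c _ h1 h2 => by
      show a⁻¹ * c ∈ M
      have := M.mul_mem h1 h2
      rwa [show a⁻¹ * b * (b⁻¹ * c) = a⁻¹ * c by group] at this)
    ((S : Subgroup G).inv_mem hx) hy
  rwa [show x⁻¹⁻¹ * (u * x⁻¹ * u⁻¹) = ⁅x, u⁆ by rw [commutatorElement_def]; group] at key

omit [Finite G] D in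
/-- `[Z(S), N(S)]`. -/
def zOne (S : Sylow 2 G) : Subgroup G :=
  closure {w | ∃ c ∈ cen (S : Subgroup G), ∃ n ∈ normalizer ((S : Subgroup G) : Set G), c⁻¹ * (n * c * n⁻¹) = w}

omit [Finite G] in
theorem zOne_le : zOne S ≤ cen (S : Subgroup G) := by
  rw [zOne, closure_le]
  rintro _ ⟨c, hc, n, hn, rfl⟩
  exact (cen _).mul_mem ((cen _).inv_mem hc) (conj_cen D hn hc)

omit [Finite G] in
theorem conj_zOne {n w : G} (hn : n ∈ normalizer ((S : Subgroup G) : Set G)) (hw : w ∈ zOne S) :
    n * w * n⁻¹ ∈ zOne S := by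
  have : (zOne S).map (MulAut.conj n).toMonoidHom ≤ zOne S := by
    rw [zOne, MonoidHom.map_closure, closure_le]
    rintro _ ⟨_, ⟨c, hc, k, hk, rfl⟩, rfl⟩
    refine subset_closure ⟨n * c * n⁻¹, conj_cen D hn hc, n * k * n⁻¹,
      mul_mem (mul_mem hn hk) (inv_mem hn), ?_⟩
    simp only [MulEquiv.coe_toMonoidHom, MulAut.conj_apply]
    group
  exact this ⟨w, hw, rfl⟩

omit [Finite G] D in
theorem core_mul {A Z : Subgroup G} {x y : G} (hx : x ∈ core A Z) (hy : y ∈ core A Z) : x * y ∈ core A Z := by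
  refine ⟨Z.mul_mem hx.1 hy.1, fun h hh => ?_⟩
  rw [show h * (x * y) * h⁻¹ = h * x * h⁻¹ * (h * y * h⁻¹) by group]
  exact Z.mul_mem (hx.2 h hh) (hy.2 h hh)

omit [Finite G] D in
theorem core_inv {A Z : Subgroup G} {x : G} (hx : x ∈ core A Z) : x⁻¹ ∈ core A Z := by
  refine ⟨Z.inv_mem hx.1, fun h hh => ?_⟩
  rw [show h * x⁻¹ * h⁻¹ = (h * x * h⁻¹)⁻¹ by group]
  exact Z.inv_mem (hx.2 h hh)

theorem zOne_subset_core {a : G} (ha : a ∈ (S : Subgroup G)) (hac : a ∉ cen (S : Subgroup G))
    (hva : Active (ax (S : Subgroup G) a) z) {w : G} (hw : w ∈ zOne S) :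
    w ∈ core (ax (S : Subgroup G) a) (cen (S : Subgroup G)) := by
  obtain ⟨-, -, -, -, -, -, -, -, hidx⟩ := active_data D ha hac hva
  rw [zOne] at hw
  induction hw using closure_induction with
  | mem w hw =>
    obtain ⟨c, hc, n, hn, rfl⟩ := hw
    have hnA : n ∈ normalizer (ax (S : Subgroup G) a : Set G) :=
      normalizes_ax D hn ha hac ((D.mem_ax_iff ha hac).2 (Or.inr (normalizer_fix D ha hac hva hn ha)))
    have hshift : ∀ {k x}, k ∈ normalizer (ax (S : Subgroup G) a : Set G) →
        k ∈ normalizer ((S : Subgroup G) : Set G) → x ∈ core (ax (S : Subgroup G) a) (cen (S : Subgroup G)) →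
        k * x * k⁻¹ ∈ core (ax (S : Subgroup G) a) (cen (S : Subgroup G)) := by
      intro k x hk hkS hx
      refine ⟨conj_cen D hkS hx.1, fun h hh => ?_⟩
      have := hx.2 (h * k) (mul_mem hh hk)
      rwa [show h * k * x * (h * k)⁻¹ = h * (k * x * k⁻¹) * h⁻¹ by group] at this
    by_cases hcc : c ∈ core (ax (S : Subgroup G) a) (cen (S : Subgroup G))
    · exact core_mul (core_inv hcc) (hshift hnA hn hcc)
    · refine hidx _ ((cen _).inv_mem hc) _ (conj_cen D hn hc) (fun h => hcc (by simpa using core_inv h))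
        fun h => hcc ?_
      have := hshift (inv_mem hnA) (inv_mem hn) h
      rwa [show n⁻¹ * (n * c * n⁻¹) * n⁻¹⁻¹ = c by group] at this
  | one => exact ⟨one_mem _, fun h _ => by rw [mul_one, mul_inv_cancel]; exact one_mem _⟩
  | mul x y _ _ hx hy => exact core_mul hx hy
  | inv x _ hx => exact core_inv hx

theorem dihedral_of_simple [IsSimpleGroup G] (hna : ¬ IsMulCommutative G) :
    Nonempty ((S : Subgroup G) ≃* DihedralGroup 4) := by
  classical
  haveI : Fact (Nat.Prime 2) := ⟨Nat.prime_two⟩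
  haveI : Group.IsPerfect G := ⟨by
    rcases IsSimpleGroup.eq_bot_or_eq_top_of_normal (commutator G) inferInstance with h | h
    · exfalso
      refine hna ⟨⟨fun x y => commutatorElement_eq_one_iff_mul_comm.1 ?_⟩⟩
      have := Subgroup.commutator_mem_commutator (mem_top x) (mem_top y)
      rw [← commutator_def, h, mem_bot] at this
      exact this
    · exact h⟩
  have hZ : center G = ⊥ := by
    rcases IsSimpleGroup.eq_bot_or_eq_top_of_normal (center G) inferInstance with h | h
    · exact h
    · exact absurd ⟨⟨fun x y => mem_center_iff.1 (h.ge (mem_top y)) x⟩⟩ hna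
  have hO : Cfsg.pPrimeCore 2 G = ⊥ := by
    haveI := Cores.pPrimeCore_normal 2 G
    rcases IsSimpleGroup.eq_bot_or_eq_top_of_normal (Cfsg.pPrimeCore 2 G) inferInstance with h | h
    · exact h
    · exfalso
      have hc := Cores.coprime_card_pPrimeCore (G := G) 2
      rw [h, Subgroup.card_top] at hc
      have h2 : 2 ∣ Nat.card G := by
        have h1 : orderOf z = 2 := orderOf_eq_prime (by rw [pow_two, D.z_sq]) D.z_ne
        exact h1 ▸ orderOf_dvd_natCard z
      have := Nat.dvd_gcd h2 (dvd_refl 2)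
      rw [Nat.Coprime] at hc
      omega
  obtain ⟨a, ha, hac, hva⟩ := exists_active D hO hZ
  have hfix := fun {n x : G} (hn : n ∈ normalizer ((S : Subgroup G) : Set G)) (hx : x ∈ (S : Subgroup G)) =>
    normalizer_fix D ha hac hva hn hx
  -- a second active subgroup
  obtain ⟨b, hb, hbc, hvb, hba⟩ : ∃ b ∈ (S : Subgroup G), b ∉ cen (S : Subgroup G) ∧
      Active (ax (S : Subgroup G) b) z ∧ b ∉ ax (S : Subgroup G) a := by
    by_contra hcon
    push Not at hcon
    obtain ⟨s, hs, hsA⟩ := exists_not_mem D ha hac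
    refine hsA (le_of_fusion D (fun n hn x hx => D.cen_le_ax ha (hfix hn hx)) (fun c hc hcc w hw => ?_) hs)
    by_cases hvc : Active (ax (S : Subgroup G) c) z
    · have := wGen_le D hc hcc hw
      rwa [D.ax_eq ha hac (hcon c hc hcc hvc) hcc] at this
    · rcases wGen_inactive D hvc w hw with rfl | rfl
      · exact one_mem _
      · exact D.z_mem_ax ha
  obtain ⟨va, hA, hAc, hA2, hAW, hWa, -, hzc, -⟩ := active_data D ha hac hva
  obtain ⟨vb, hB, hBc, hB2, hBW, hWb, -, -, -⟩ := active_data D hb hbc hvb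
  have hne : va * vb ≠ vb * va := fun h => by
    have h1 : vb ∈ ax (S : Subgroup G) va := mem_ax.2 ⟨hB.1, h.symm⟩
    have h2 := D.ax_eq hA.1 hAc h1 hBc
    rw [D.ax_eq hb hbc hB hBc, D.ax_eq ha hac hA hAc] at h2
    exact hba (h2 ▸ mem_ax.2 ⟨hb, rfl⟩)
  have hvne : va ≠ vb := fun e => hne (by rw [e])
  set K := closure ({va, vb} : Set G) with hK
  have hvaK : va ∈ K := subset_closure (Set.mem_insert _ _)
  have hvbK : vb ∈ K := subset_closure (Set.mem_insert_of_mem _ rfl)
  have hKS : K ≤ (S : Subgroup G) := by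
    rw [hK, closure_le]
    rintro w (rfl | rfl)
    · exact hA.1
    · exact hB.1
  have hc2 : va * vb * (va * vb) = z := by
    have hz' : va * vb = vb * va * z := (D.comm_or _ hA.1 _ hB.1).resolve_left hne
    have : vb * va = va * vb * z := by rw [hz', mul_assoc, D.z_sq, mul_one]
    calc va * vb * (va * vb) = va * (vb * va) * vb := by group
      _ = va * (va * vb * z) * vb := by rw [this]
      _ = (va * va) * vb * (z * vb) := by group
      _ = vb * (vb * z) := by rw [hA2, one_mul, D.z_comm hB.1]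
      _ = z := by rw [← mul_assoc, hB2, one_mul]
  have hord : orderOf (va * vb) = 4 := by
    have h := orderOf_eq_prime_pow (x := va * vb) (p := 2) (n := 1)
      (by rw [pow_one, pow_two, hc2]; exact D.z_ne)
      (by rw [show (2 : ℕ) ^ (1 + 1) = 2 + 2 from rfl, pow_add, pow_two, hc2, D.z_sq])
    simpa using h
  have hva1 : va ≠ 1 := fun e => hAc (e ▸ one_mem _)
  have hvb1 : vb ≠ 1 := fun e => hBc (e ▸ one_mem _)
  have e := Involution.dihedralEquiv (Involution.orderOf_of_sq hA2 hva1) (Involution.orderOf_of_sq hB2 hvb1) hvne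
  rw [hord] at e
  have hKcard : Nat.card K = 8 := by rw [← Nat.card_congr e.toEquiv, DihedralGroup.nat_card]
  have hzK : z ∈ K := hc2 ▸ K.mul_mem (K.mul_mem hvaK hvbK) (K.mul_mem hvaK hvbK)
  -- `K` meets the centre in `⟨z⟩`
  have hKZ : ∀ w ∈ K, w ∈ cen (S : Subgroup G) → w = 1 ∨ w = z := by
    intro w hw hwc
    let q : Fin 4 → G := ![1, va, vb, va * vb]
    have hq : ∀ i, q i ∈ K := by
      intro i; fin_cases i <;> simp [q, hvaK, hvbK, mul_mem hvaK hvbK]
    have hqne : ∀ i j, (q i)⁻¹ * q j ∈ cen (S : Subgroup G) → i = j := by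
      intro i j h
      have hvb' : va⁻¹ * vb ∉ cen (S : Subgroup G) := fun h => hne (by
        have := (mem_cen.1 h).2 va hA.1
        calc va * vb = va * (va * (va⁻¹ * vb)) := by group
          _ = va * ((va⁻¹ * vb) * va) := by rw [this]
          _ = vb * va := by group)
      have hab : va * vb ∉ cen (S : Subgroup G) := fun h => hne (by
        have := (mem_cen.1 h).2 va hA.1
        calc va * vb = va⁻¹ * (va * (va * vb)) := by group
          _ = va⁻¹ * (va * vb * va) := by rw [this]
          _ = vb * va := by group)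
      have hab' : vb⁻¹ * (va * vb) ∉ cen (S : Subgroup G) := fun h => hne (by
        have := (mem_cen.1 h).2 vb hB.1
        calc va * vb = vb * (vb⁻¹ * (va * vb)) := by group
          _ = vb⁻¹ * (va * vb) * vb := this
          _ = vb⁻¹ * va * (vb * vb) := by group
          _ = vb * va := by rw [hB2, mul_one, inv_eq_of_mul_eq_one_left hB2])
      have i1 : ∀ u, u ∉ cen (S : Subgroup G) → u⁻¹ ∉ cen (S : Subgroup G) := fun u hu h => hu (inv_mem_iff.1 h)
      fin_cases i <;> fin_cases j <;> simp only [q] at h <;> first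
        | rfl
        | (exfalso; revert h; simp only [Fin.isValue, Fin.reduceFinMk, Fin.mk_one, Fin.zero_eta,
            Matrix.cons_val_zero, Matrix.cons_val_one, Matrix.cons_val, inv_one, one_mul, mul_one]
           intro h
           first
            | exact hAc h
            | exact hBc h
            | exact hab h
            | exact i1 _ hAc h
            | exact i1 _ hBc h
            | exact i1 _ hab h
            | exact hvb' h
            | exact hab' h
            | exact i1 _ hvb' (by rwa [mul_inv_rev, inv_inv] at *)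
            | exact i1 _ hab' (by rw [mul_inv_rev, inv_inv]; exact h)
            | exact hBc (by simpa using h)
            | exact i1 _ hBc (by simpa [mul_inv_rev, mul_assoc] using h))
    set Q := K ⊓ cen (S : Subgroup G)
    let f : Fin 4 × Q → K := fun p => ⟨q p.1 * p.2, K.mul_mem (hq _) p.2.2.1⟩
    have hf : Function.Injective f := by
      rintro ⟨i, x⟩ ⟨j, y⟩ h
      have h' : q i * (x : G) = q j * y := congrArg Subtype.val h
      obtain rfl := hqne i j (by
        have e' : (q i)⁻¹ * q j = (x : G) * (y : G)⁻¹ := by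
          calc (q i)⁻¹ * q j = (q i)⁻¹ * (q j * y) * (y : G)⁻¹ := by group
            _ = (x : G) * (y : G)⁻¹ := by rw [← h']; group
        rw [e']
        exact (cen _).mul_mem x.2.2 ((cen _).inv_mem y.2.2))
      exact Prod.ext rfl (Subtype.ext (mul_left_cancel h'))
    have h2 := Nat.card_le_card_of_injective f hf
    rw [Nat.card_prod, Nat.card_fin, hKcard] at h2
    by_contra hcon
    push Not at hcon
    have h3 : 3 ≤ Nat.card Q := by
      have : Function.Injective ![(1 : Q), ⟨z, hzK, D.z_mem⟩, ⟨w, hw, hwc⟩] := by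
        intro i j h
        fin_cases i <;> fin_cases j <;> first
          | rfl
          | (have h' := congrArg Subtype.val h
             simp [D.z_ne, Ne.symm D.z_ne, hcon.1, hcon.2, Ne.symm hcon.1, Ne.symm hcon.2] at h')
      simpa using Nat.card_le_card_of_injective _ this
    omega
  -- every active subgroup is one of the two
  have hWK : ∀ c ∈ (S : Subgroup G), c ∉ cen (S : Subgroup G) → wGen (ax (S : Subgroup G) c) z ≤ K := by
    intro c hc hcc w hw
    have hgen : ∀ {v}, v ∈ K → (w = 1 ∨ w = z ∨ w = v ∨ w = v * z) → w ∈ K := by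
      rintro v hv (rfl | rfl | rfl | rfl)
      exacts [one_mem _, hzK, hv, K.mul_mem hv hzK]
    by_cases hvc : Active (ax (S : Subgroup G) c) z
    · by_cases hca : c ∈ ax (S : Subgroup G) a
      · exact hgen hvaK (hWa w (by rwa [D.ax_eq ha hac hca hcc] at hw))
      by_cases hcb : c ∈ ax (S : Subgroup G) b
      · exact hgen hvbK (hWb w (by rwa [D.ax_eq hb hbc hcb hcc] at hw))
      exact absurd (no_three_active D ha hac hb hbc hc hcc hva hvb hvc hba hca hcb) id
    · rcases wGen_inactive D hvc w hw with rfl | rfl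
      exacts [one_mem _, hzK]
  have hnK : ∀ n ∈ normalizer ((S : Subgroup G) : Set G), ∀ w ∈ K, n * w * n⁻¹ ∈ K := by
    intro n hn
    have hgenK : ∀ {d v}, d ∈ (S : Subgroup G) → d ∉ cen (S : Subgroup G) → Active (ax (S : Subgroup G) d) z →
        v ∈ wGen (ax (S : Subgroup G) d) z → n * v * n⁻¹ ∈ K := fun hd hdc _ hv => by
      exact hWK _ hd hdc (conj_mem_wGen (normalizes_ax D hn hd hdc
        ((D.mem_ax_iff hd hdc).2 (Or.inr (hfix hn hd)))) hv)
    have : K.map (MulAut.conj n).toMonoidHom ≤ K := by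
      rw [hK, MonoidHom.map_closure, closure_le]
      rintro _ ⟨w, hw, rfl⟩
      rcases hw with rfl | rfl
      · exact hgenK ha hac hva hAW
      · exact hgenK hb hbc hvb hBW
    exact fun w hw => this ⟨w, hw, rfl⟩
  have hclK : IsStronglyClosed K (S : Subgroup G) := ⟨hKS, fun x hx g hg =>
    fusion_induction D (fun x y => x ∈ K → y ∈ K) (fun n hn x _ hx => hnK n hn x hx)
      (fun c hc hcc m hm x hxc hx => by
        obtain ⟨n, hn, -, hd⟩ := decomp D hc hcc hm
        have := K.mul_mem (hnK n hn x hx) (hWK c hc hcc (hd x hxc).1)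
        rwa [mul_inv_cancel_left] at this)
      (fun _ _ _ _ _ _ h1 h2 h => h2 (h1 h)) (hKS hx) hg hx⟩
  have hclZ : IsStronglyClosed (zOne S) (S : Subgroup G) := ⟨fun x hx => (zOne_le D hx).1, fun x hx g hg =>
    fusion_induction D (fun x y => x ∈ zOne S → y ∈ zOne S) (fun n hn x _ hx => conj_zOne D hn hx)
      (fun c hc hcc m hm x hxc hx => by
        obtain ⟨n, hn, -, hd⟩ := decomp D hc hcc hm
        by_cases hvc : Active (ax (S : Subgroup G) c) z
        · rw [(hd x hxc).2 (zOne_subset_core D hc hcc hvc hx)]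
          exact conj_zOne D hn hx
        · rcases wGen_inactive D hvc _ (hd x hxc).1 with h | h
          · rw [inv_mul_eq_one.1 h |>.symm]
            exact conj_zOne D hn hx
          · exfalso
            -- impossible: both images lie in the centre and conjugation fixes `z`
            obtain ⟨n', hn', -, he⟩ := act_of_fix D hc hcc hm (by
              have hv := hvc
              rw [Active] at hv
              push Not at hv
              exact hv m hm)
            have e1 := he x hxc
            have hx' := conj_zOne D hn' hx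
            rw [← e1] at hx'
            have h1 := (zOne S).mul_mem ((zOne S).inv_mem (conj_zOne D hn hx)) hx'
            rw [h] at h1
            exact hzc (zOne_subset_core D ha hac hva h1))
      (fun _ _ _ _ _ _ h1 h2 h => h2 (h1 h)) (zOne_le D hx).1 hg hx⟩
  have hdisj : K ⊓ zOne S = ⊥ := by
    rw [eq_bot_iff]
    rintro w ⟨hwK, hwZ⟩
    rcases hKZ w hwK (zOne_le D hwZ) with rfl | rfl
    · exact one_mem _
    · exact absurd (zOne_subset_core D ha hac hva hwZ) hzc
  have hZ1 : zOne S = ⊥ := by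
    by_contra hne'
    have hcomm := ClosedPair.commute_normalClosure S hclK hclZ
      (fun x hx y hy => (mem_cen.1 (zOne_le D hy)).2 x (hKS hx)) hdisj hO
    have t1 : normalClosure (K : Set G) = ⊤ :=
      (IsSimpleGroup.eq_bot_or_eq_top_of_normal _ normalClosure_normal).resolve_left fun h =>
        hva1 (mem_bot.1 (h ▸ subset_normalClosure hvaK))
    have t2 : normalClosure (zOne S : Set G) = ⊤ :=
      (IsSimpleGroup.eq_bot_or_eq_top_of_normal _ normalClosure_normal).resolve_left fun h =>
        hne' (le_bot_iff.1 (h ▸ subset_normalClosure))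
    rw [t1, t2] at hcomm
    exact hna ⟨⟨fun x y => (mem_centralizer_iff.1 (hcomm (mem_top y)) x (mem_top x))⟩⟩
  have hSK : (S : Subgroup G) ≤ K := by
    refine le_of_fusion D (fun n hn x hx => ?_) hWK
    have hcenK : ∀ e ∈ cen (S : Subgroup G), e⁻¹ * (n * e * n⁻¹) = 1 := fun e he => by
      have : e⁻¹ * (n * e * n⁻¹) ∈ zOne S := subset_closure ⟨e, he, n, hn, rfl⟩
      rwa [hZ1, mem_bot] at this
    have hmain : ∀ q ∈ K, q⁻¹ * x ∈ cen (S : Subgroup G) → x⁻¹ * (n * x * n⁻¹) ∈ K := by
      intro q hq h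
      have h2 := hcenK _ h
      rw [inv_mul_eq_one] at h2
      have h3 := K.mul_mem (K.inv_mem hq) (hnK n hn q hq)
      have hcomm : (q⁻¹ * x) * (q⁻¹ * (n * q * n⁻¹)) = q⁻¹ * (n * q * n⁻¹) * (q⁻¹ * x) :=
        ((mem_cen.1 h).2 _ (hKS h3)).symm
      have e : x⁻¹ * (n * x * n⁻¹) = q⁻¹ * (n * q * n⁻¹) := by
        calc x⁻¹ * (n * x * n⁻¹) = (q⁻¹ * x)⁻¹ * q⁻¹ * ((n * q * n⁻¹) * (n * (q⁻¹ * x) * n⁻¹)) := by group
          _ = (q⁻¹ * x)⁻¹ * (q⁻¹ * (n * q * n⁻¹) * (q⁻¹ * x)) := by rw [← h2]; group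
          _ = q⁻¹ * (n * q * n⁻¹) := by rw [← hcomm, inv_mul_cancel_left]
      rw [e]; exact h3
    rcases D.cosets hA.1 hB.1 hne hx with h | h | h | h
    · exact hmain 1 (one_mem _) (by simpa using h)
    · exact hmain va hvaK h
    · exact hmain vb hvbK h
    · exact hmain (va * vb) (mul_mem hvaK hvbK) h
  have hKS' : K = (S : Subgroup G) := le_antisymm hKS hSK
  exact ⟨(MulEquiv.subgroupCongr hKS'.symm).trans e.symm⟩

end Cfsg.Agent.CentIndexFour
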